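import Cfsg.Agent.Lib.SLPres.Main
import Cfsg.Agent.Lib.Schur.SL2Root

/-!
Lifts of the root groups to a central extension of `SLₙ(q)` satisfy the Steinberg relations, so the
multiplier of `SLₙ(q)` is trivial, apart from the well-known exceptions.
-/

set_option autoImplicit false
set_option linter.style.haveILetI false

namespace Cfsg.Agent.SLPres

open Matrix
open scoped commutatorElement
open SL2Root (comm_congr comm_mul_left comm_mul_right)

variable {n : ℕ} {K : Type*} [Field K]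

/-- A diagonal element of determinant one. -/
def diagSL (τ : Fin n → Kˣ) (h : ∏ i, τ i = 1) : (SpecialLinearGroup (Fin n) K) :=
  ⟨Matrix.diagonal fun i => (τ i : K), by rw [Matrix.det_diagonal, ← Units.coe_prod, h, Units.val_one]⟩

theorem diagSL_conj (τ : Fin n → Kˣ) (h : ∏ i, τ i = 1) {i j : Fin n} (hij : i ≠ j) (t : K) :
    diagSL τ h * (slData n K).y i j t * (diagSL τ h)⁻¹ =
      (slData n K).y i j ((τ i : K) * ((τ j : K))⁻¹ * t) := by
  rw [mul_inv_eq_iff_eq_mul, slData_y hij, slData_y hij]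
  apply Subtype.ext
  show Matrix.diagonal (fun i => (τ i : K)) * (1 + Matrix.single i j t) =
    (1 + Matrix.single i j ((τ i : K) * ((τ j : K))⁻¹ * t)) * Matrix.diagonal fun i => (τ i : K)
  ext a b
  simp only [Matrix.diagonal_mul, Matrix.mul_diagonal, Matrix.add_apply, Matrix.one_apply,
    Matrix.single_apply]
  by_cases hab : a = b
  · subst hab
    have : ¬ (i = a ∧ j = a) := fun h' => hij (h'.1.trans h'.2.symm)
    simp [this]
  · by_cases h' : i = a ∧ j = b
    · obtain ⟨rfl, rfl⟩ := h'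
      simp [hij]
      field_simp
    · simp [hab, h']

theorem diagSL_commute (τ σ : Fin n → Kˣ) (h : ∏ i, τ i = 1) (h' : ∏ i, σ i = 1) :
    diagSL τ h * diagSL σ h' = diagSL σ h' * diagSL τ h :=
  Subtype.ext (by
    show Matrix.diagonal _ * Matrix.diagonal _ = Matrix.diagonal _ * Matrix.diagonal _
    rw [Matrix.diagonal_mul_diagonal, Matrix.diagonal_mul_diagonal]
    simp only [mul_comm])

theorem exists_unit_cube_ne_one [Finite K] (h2 : Nat.card K ≠ 2) (h4 : Nat.card K ≠ 4) :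
    ∃ c : Kˣ, c ^ 3 ≠ 1 := by
  obtain ⟨s, hs⟩ := IsCyclic.exists_ofOrder_eq_natCard (α := Kˣ)
  refine ⟨s, fun h => ?_⟩
  have h1 := orderOf_dvd_of_pow_eq_one h
  rw [hs, Nat.card_units] at h1
  have h5 := Finite.one_lt_card (α := K)
  rcases (Nat.dvd_prime Nat.prime_three).1 h1 with h6 | h6 <;> omega

theorem exists_unit_sq_ne_one [Finite K] (h2 : Nat.card K ≠ 2) (h3 : Nat.card K ≠ 3) :
    ∃ c : Kˣ, c ^ 2 ≠ 1 := by
  obtain ⟨s, hs⟩ := IsCyclic.exists_ofOrder_eq_natCard (α := Kˣ)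
  refine ⟨s, fun h => ?_⟩
  have h1 := orderOf_dvd_of_pow_eq_one h
  rw [hs, Nat.card_units] at h1
  have h5 := Finite.one_lt_card (α := K)
  rcases (Nat.dvd_prime Nat.prime_two).1 h1 with h6 | h6 <;> omega

theorem eq_of_mem_cubes [Finite K] (h4 : Nat.card K ≠ 4) (B : AddSubgroup K) (h1 : (1 : K) ∈ B)
    (hmul : ∀ a ∈ B, ∀ b ∈ B, a * b ∈ B) (hcube : ∀ c : Kˣ, (c : K) ^ 3 ∈ B) (x : K) : x ∈ B := by
  classical
  haveI := Fintype.ofFinite K
  have hpow : ∀ a ∈ B, ∀ k : ℕ, a ^ k ∈ B := fun a ha k => by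
    induction k with
    | zero => rwa [pow_zero]
    | succ k ih => rw [pow_succ]; exact hmul _ ih _ ha
  let S : Subfield K :=
    { carrier := B
      mul_mem' := fun {a b} ha hb => hmul a ha b hb
      one_mem' := h1
      add_mem' := fun {a b} ha hb => B.add_mem ha hb
      zero_mem' := B.zero_mem
      neg_mem' := fun {a} ha => B.neg_mem ha
      inv_mem' := fun a ha => by
        rcases eq_or_ne a 0 with rfl | h0
        · rw [_root_.inv_zero]; exact B.zero_mem
        · have e : a⁻¹ = a ^ (Fintype.card K - 2) := by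
            have h2 := Fintype.one_lt_card (α := K)
            refine inv_eq_of_mul_eq_one_right ?_
            rw [← pow_succ', show Fintype.card K - 2 + 1 = Fintype.card K - 1 by omega,
              FiniteField.pow_card_sub_one_eq_one a h0]
          show a⁻¹ ∈ B
          rw [e]
          exact hpow a ha _ }
  show x ∈ S
  have hk : Nat.card K = Nat.card S ^ Module.finrank S K := Module.natCard_eq_pow_finrank
  have h1lt : 1 < Nat.card S := Finite.one_lt_card
  rcases Nat.lt_or_ge (Module.finrank S K) 2 with h | h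
  · have hlt := Finite.one_lt_card (α := K)
    have he : Module.finrank S K = 1 := by
      rcases Nat.eq_zero_or_pos (Module.finrank S K) with h0 | h0
      · rw [h0, pow_zero] at hk; omega
      · omega
    rw [he, pow_one] at hk
    have : (S : Set K) = Set.univ := Set.eq_of_subset_of_ncard_le (Set.subset_univ _)
      (by rw [Set.ncard_univ, hk]; rfl) Set.finite_univ
    exact (this ▸ Set.mem_univ x : x ∈ (S : Set K))
  · exfalso
    let φ : Kˣ → Sˣ := fun c => Units.mk0 ⟨(c : K) ^ 3, hcube c⟩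
      (fun h0 => pow_ne_zero 3 c.ne_zero (congrArg Subtype.val h0))
    have hcard : (powMonoidHom 3 : Kˣ →* Kˣ).range.index ≤ 3 := by
      rw [IsCyclic.index_powMonoidHom_range]
      exact Nat.le_of_dvd (by norm_num) (Nat.gcd_dvd_right _ _)
    have hle : Nat.card (powMonoidHom 3 : Kˣ →* Kˣ).range ≤ Nat.card Sˣ := by
      refine Nat.card_le_card_of_injective
        (fun y => φ y.2.choose) fun a b hab => Subtype.ext ?_
      have hab' : ((a.2.choose : Kˣ) : K) ^ 3 = ((b.2.choose : Kˣ) : K) ^ 3 :=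
        congrArg (fun u : Sˣ => ((u : S) : K)) hab
      rw [← a.2.choose_spec, ← b.2.choose_spec]
      exact Units.ext (by simpa using hab')
    have h3 := Subgroup.card_mul_index (powMonoidHom 3 : Kˣ →* Kˣ).range
    rw [Nat.card_units] at h3
    rw [Nat.card_units] at hle
    have h5 : Nat.card S ^ 2 ≤ Nat.card K := hk ▸ Nat.pow_le_pow_right (by omega) h
    have h6 : Nat.card K - 1 ≤ (Nat.card S - 1) * 3 := h3 ▸ Nat.mul_le_mul hle hcard
    have h7 : Nat.card S * Nat.card S ≤ 3 * Nat.card S - 2 := by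
      rw [pow_two] at h5
      omega
    have h8 : Nat.card S ≤ 2 := by
      by_contra hc
      have : 3 * Nat.card S ≤ Nat.card S * Nat.card S := Nat.mul_le_mul_right _ (by omega)
      omega
    have h9 : Nat.card S = 2 := by omega
    rw [h9] at hk h6
    have h10 : 4 ≤ Nat.card K := hk ▸ (show 2 ^ 2 ≤ 2 ^ _ from Nat.pow_le_pow_right (by norm_num) h)
    omega

theorem exists_outside {s : Finset (Fin n)} (h : s.card < n) : ∃ m, m ∉ s := by
  obtain ⟨m, hm⟩ : ∃ m, m ∈ sᶜ := Finset.card_pos.1 (by rw [Finset.card_compl, Fintype.card_fin]; omega)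
  exact ⟨m, Finset.mem_compl.1 hm⟩

theorem zmod_three_cases : ∀ y : ZMod 3, y = 0 ∨ y = 1 ∨ y = 1 + 1 := by decide

theorem zmod_three_sum : (1 : ZMod 3) + 1 + 1 = 0 := by decide

section lifts

variable {X : Type*} [Group X] (ξ : X →* (SpecialLinearGroup (Fin n) K)) (hs : Function.Surjective ξ)
  (hc : ξ.ker ≤ Subgroup.center X)

/-- A lift of a root element. -/
noncomputable def L (i j : Fin n) (t : K) : X := Function.surjInv hs ((slData n K).y i j t)

theorem L_spec (i j : Fin n) (t : K) : ξ (L ξ hs i j t) = (slData n K).y i j t :=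
  Function.surjInv_eq hs _

include hc

theorem lift_diff {x y : X} (h : ξ x = ξ y) : ∃ z ∈ Subgroup.center X, x = y * z :=
  ⟨y⁻¹ * x, hc (by rw [MonoidHom.mem_ker, map_mul, map_inv, h, inv_mul_cancel]), by group⟩

theorem comm_eq_of_map_eq {x x' y y' : X} (hx : ξ x = ξ x') (hy : ξ y = ξ y') :
    ⁅x, y⁆ = ⁅x', y'⁆ := by
  obtain ⟨z, hz, rfl⟩ := lift_diff ξ hc hx
  obtain ⟨w, hw, rfl⟩ := lift_diff ξ hc hy
  exact comm_congr hz hw _ _

theorem comm_mem_center {x y : X} (h : Commute (ξ x) (ξ y)) : ⁅x, y⁆ ∈ Subgroup.center X :=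
  hc (by rw [MonoidHom.mem_ker, map_commutatorElement, commutatorElement_eq_one_iff_commute.2 h])

include hs

/-- A commutator of lifts of commuting root elements, twisted additivity. -/
theorem pair_eq_one_of_twist {i j k l : Fin n} (hij : i ≠ j) (hkl : k ≠ l) (hil : i ≠ l)
    (hjk : j ≠ k) (g : (SpecialLinearGroup (Fin n) K)) {α : K} (hα : α ≠ 1)
    (h1 : ∀ t, g * (slData n K).y i j t * g⁻¹ = (slData n K).y i j (α * t))
    (h2 : ∀ u, g * (slData n K).y k l u * g⁻¹ = (slData n K).y k l u) (t u : K) :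
    ⁅L ξ hs i j t, L ξ hs k l u⁆ = 1 := by
  have hcen : ∀ t u, ⁅L ξ hs i j t, L ξ hs k l u⁆ ∈ Subgroup.center X := fun t u =>
    comm_mem_center ξ hc (by rw [L_spec, L_spec]; exact (slData n K).comm hij hkl hil hjk t u)
  obtain ⟨H, rfl⟩ := hs g
  have hinv : ∀ t u, ⁅L ξ hs i j (α * t), L ξ hs k l u⁆ = ⁅L ξ hs i j t, L ξ hs k l u⁆ := by
    intro t u
    rw [comm_eq_of_map_eq ξ hc (x' := H * L ξ hs i j t * H⁻¹) (y' := H * L ξ hs k l u * H⁻¹)
      (by rw [L_spec, map_mul, map_mul, map_inv, L_spec, h1])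
      (by rw [L_spec, map_mul, map_mul, map_inv, L_spec, h2]),
      ← conjugate_commutatorElement, Subgroup.mem_center_iff.1 (hcen t u) H, mul_inv_cancel_right]
  have hadd : ∀ a b, ⁅L ξ hs i j (a + b), L ξ hs k l u⁆ =
      ⁅L ξ hs i j a, L ξ hs k l u⁆ * ⁅L ξ hs i j b, L ξ hs k l u⁆ := by
    intro a b
    rw [comm_eq_of_map_eq ξ hc (x' := L ξ hs i j a * L ξ hs i j b) (y' := L ξ hs k l u)
      (by rw [L_spec, map_mul, L_spec, L_spec, (slData n K).add hij]) rfl, comm_mul_left (hcen b u)]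
  have h := hadd ((α - 1) * (t / (α - 1))) (t / (α - 1))
  rw [show (α - 1) * (t / (α - 1)) + t / (α - 1) = α * (t / (α - 1)) by ring, hinv] at h
  have h' := mul_right_cancel (a := (1 : X)) ((one_mul _).trans h)
  rw [mul_div_cancel₀ _ (sub_ne_zero.2 hα)] at h'
  exact h'.symm

/-- A commutator of lifts of commuting root elements, splitting through a further index. -/
theorem pair_eq_one_of_split {i j k l m : Fin n} (hij : i ≠ j) (hkl : k ≠ l) (hil : i ≠ l)
    (hjk : j ≠ k) (him : i ≠ m) (hjm : j ≠ m) (hkm : k ≠ m) (hlm : l ≠ m) (t u : K) :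
    ⁅L ξ hs i j t, L ξ hs k l u⁆ = 1 := by
  have hsw : ξ (L ξ hs k l u) = ξ ⁅L ξ hs k m u, L ξ hs m l 1⁆ := by
    rw [map_commutatorElement, L_spec, L_spec, L_spec, (slData n K).brac hkm hlm.symm hkl, mul_one]
  rw [comm_eq_of_map_eq ξ hc rfl hsw, commutatorElement_eq_one_iff_mul_comm, ← mul_inv_eq_iff_eq_mul,
    conjugate_commutatorElement]
  refine comm_eq_of_map_eq ξ hc ?_ ?_
  · rw [map_mul, map_mul, map_inv, L_spec, L_spec]
    exact (slData n K).conj_comm hij hkm him hjk t u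
  · rw [map_mul, map_mul, map_inv, L_spec, L_spec]
    exact (slData n K).conj_comm hij hlm.symm hil hjm t 1

variable [Finite K] (hn : 3 ≤ n) (hexc3 : n = 3 → Nat.card K ≠ 2 ∧ Nat.card K ≠ 4)
  (hexc4 : n = 4 → Nat.card K ≠ 2)

include hn hexc3 hexc4

/-- Lifts of commuting root elements commute. -/
theorem comm_lifts {i j k l : Fin n} (hij : i ≠ j) (hkl : k ≠ l) (hil : i ≠ l) (hjk : j ≠ k)
    (t u : K) : ⁅L ξ hs i j t, L ξ hs k l u⁆ = 1 := by
  classical
  rcases Nat.lt_or_ge ({i, j, k, l} : Finset (Fin n)).card n with hlt | hge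
  · obtain ⟨m, hm⟩ := exists_outside hlt
    simp only [Finset.mem_insert, Finset.mem_singleton, not_or] at hm
    exact pair_eq_one_of_split ξ hs hc hij hkl hil hjk (Ne.symm hm.1) (Ne.symm hm.2.1)
      (Ne.symm hm.2.2.1) (Ne.symm hm.2.2.2) t u
  have h4 : ({i, j, k, l} : Finset (Fin n)).card ≤ 4 := Finset.card_le_four
  rcases (show n = 3 ∨ n = 4 by omega) with rfl | rfl
  · obtain ⟨c, hc3⟩ := exists_unit_cube_ne_one (hexc3 rfl).1 (hexc3 rfl).2
    have hne : ((c ^ 3 : Kˣ) : K) ≠ 1 := fun h => hc3 (Units.ext h)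
    rcases eq_or_ne i k with rfl | hik
    · rcases eq_or_ne j l with rfl | hjl
      · exfalso
        have : ({i, j, i, j} : Finset (Fin 3)) ⊆ {i, j} := by
          intro x; simp only [Finset.mem_insert, Finset.mem_singleton]; tauto
        have h1 := (Finset.card_le_card this).trans Finset.card_le_two
        omega
      let τ : Fin 3 → Kˣ := fun a => if a = j then (c ^ 2)⁻¹ else c
      have hτ : ∏ a, τ a = 1 := by
        rw [← Finset.mul_prod_erase Finset.univ τ (Finset.mem_univ j),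
          Finset.prod_congr rfl (g := fun _ => c) fun a ha => if_neg (Finset.ne_of_mem_erase ha),
          Finset.prod_const, Finset.card_erase_of_mem (Finset.mem_univ j)]
        simp [τ]
      refine pair_eq_one_of_twist ξ hs hc hij hkl hil hjk (diagSL τ hτ) hne (fun a => ?_) (fun a => ?_) t u
      · rw [diagSL_conj τ hτ hij]
        simp [τ, hij]
        ring_nf
      · rw [diagSL_conj τ hτ hkl]
        simp [τ, hij, hjl.symm]
    · obtain rfl : j = l := by
        by_contra hjl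
        have := ({i, j, k, l} : Finset (Fin 3)).card_le_univ
        simp [hij, hik, hil, hjk, hjl, hkl, Fintype.card_fin] at this
      let τ : Fin 3 → Kˣ := fun a => if a = i then c ^ 2 else c⁻¹
      have hτ : ∏ a, τ a = 1 := by
        rw [← Finset.mul_prod_erase Finset.univ τ (Finset.mem_univ i),
          Finset.prod_congr rfl (g := fun _ => c⁻¹) fun a ha => if_neg (Finset.ne_of_mem_erase ha),
          Finset.prod_const, Finset.card_erase_of_mem (Finset.mem_univ i)]
        simp [τ]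
      refine pair_eq_one_of_twist ξ hs hc hij hkl hil hjk (diagSL τ hτ) hne (fun a => ?_) (fun a => ?_) t u
      · rw [diagSL_conj τ hτ hij]
        simp [τ, hij.symm]
        ring_nf
      · rw [diagSL_conj τ hτ hkl]
        simp [τ, hij.symm, hik.symm]
  · have hik : i ≠ k := by
      rintro rfl
      have : ({i, j, i, l} : Finset (Fin 4)) ⊆ {i, j, l} := by
        intro x; simp only [Finset.mem_insert, Finset.mem_singleton]; tauto
      have h1 := (Finset.card_le_card this).trans Finset.card_le_three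
      omega
    have hjl : j ≠ l := by
      rintro rfl
      have : ({i, j, k, j} : Finset (Fin 4)) ⊆ {i, j, k} := by
        intro x; simp only [Finset.mem_insert, Finset.mem_singleton]; tauto
      have h1 := (Finset.card_le_card this).trans Finset.card_le_three
      omega
    by_cases hK3 : Nat.card K = 3
    · -- the prime field of order three
      haveI := Fintype.ofFinite K
      haveI : Fact (Nat.Prime 3) := ⟨Nat.prime_three⟩
      have hcardK : Fintype.card K = 3 := by rw [← Nat.card_eq_fintype_card, hK3]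
      let e : ZMod 3 ≃+* K := ZMod.ringEquivOfPrime K Nat.prime_three hcardK
      have hcases : ∀ x : K, x = 0 ∨ x = 1 ∨ x = 1 + 1 := by
        intro x
        have hz := zmod_three_cases
        rcases hz (e.symm x) with h | h | h <;>
          [left; (right; left); (right; right)] <;> simpa using congrArg e h
      let f : K → K → X := fun a b => ⁅L ξ hs i j a, L ξ hs k l b⁆
      have hcen : ∀ a b, f a b ∈ Subgroup.center X := fun a b =>
        comm_mem_center ξ hc (by rw [L_spec, L_spec]; exact (slData 4 K).comm hij hkl hil hjk a b)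
      have hadd : ∀ a a' b, f (a + a') b = f a b * f a' b := fun a a' b => by
        show ⁅_, _⁆ = _
        rw [comm_eq_of_map_eq ξ hc (x' := L ξ hs i j a * L ξ hs i j a') (y' := L ξ hs k l b)
          (by rw [L_spec, map_mul, L_spec, L_spec, (slData 4 K).add hij]) rfl, comm_mul_left (hcen a' b)]
      have hadd' : ∀ a b b', f a (b + b') = f a b * f a b' := fun a b b' => by
        show ⁅_, _⁆ = _
        rw [comm_eq_of_map_eq ξ hc (x' := L ξ hs i j a) (y' := L ξ hs k l b * L ξ hs k l b') rfl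
          (by rw [L_spec, map_mul, L_spec, L_spec, (slData 4 K).add hkl]), comm_mul_right (hcen a b')]
      have hf0 : ∀ b, f 0 b = 1 := fun b => mul_eq_left.1 (by rw [← hadd, add_zero] : f 0 b * f 0 b = f 0 b)
      have hf0' : ∀ a, f a 0 = 1 := fun a => mul_eq_left.1 (by rw [← hadd', add_zero] : f a 0 * f a 0 = f a 0)
      obtain ⟨P, hP⟩ := hs ((slData 4 K).w j l 1 * (slData 4 K).w i k 1)
      have hswap : f 1 1 = ⁅L ξ hs k l 1, L ξ hs i j 1⁆ := by
        have hconj : ∀ x, ξ (P * x * P⁻¹) = (slData 4 K).w j l 1 *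
            ((slData 4 K).w i k 1 * ξ x * ((slData 4 K).w i k 1)⁻¹) * ((slData 4 K).w j l 1)⁻¹ := by
          intro x; rw [map_mul, map_mul, map_inv, hP]; group
        calc f 1 1 = P * f 1 1 * P⁻¹ := by
              rw [Subgroup.mem_center_iff.1 (hcen 1 1) P, mul_inv_cancel_right]
          _ = _ := by
            rw [conjugate_commutatorElement]
            refine comm_eq_of_map_eq ξ hc ?_ ?_
            · rw [hconj, L_spec, L_spec, (slData 4 K).w_ik hik hij hjk.symm _ _ one_ne_zero,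
                (slData 4 K).w_ki hjl hjk (Ne.symm hkl) _ _ one_ne_zero]
              norm_num
            · rw [hconj, L_spec, L_spec, (slData 4 K).w_jk hik hil hkl _ _ one_ne_zero,
                (slData 4 K).w_kj hjl hij.symm hil.symm _ _ one_ne_zero]
              norm_num
      have h11 : f 1 1 = 1 := by
        have hsq : f 1 1 * f 1 1 = 1 := by
          nth_rewrite 2 [hswap]
          rw [← commutatorElement_inv, mul_inv_cancel]
        have hcube : f 1 1 * f 1 1 * f 1 1 = 1 := by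
          rw [← hadd, ← hadd]
          have : (1 : K) + 1 + 1 = 0 := by
            rw [← map_one e, ← map_add, ← map_add, zmod_three_sum, map_zero]
          rw [this, hf0]
        rwa [hsq, one_mul] at hcube
      show f t u = 1
      rcases hcases t with rfl | rfl | rfl <;> rcases hcases u with rfl | rfl | rfl <;>
        simp [hadd, hadd', hf0, hf0', h11]
    · obtain ⟨v, hv⟩ := exists_unit_sq_ne_one (hexc4 rfl) hK3
      have hne : ((v ^ 2 : Kˣ) : K) ≠ 1 := fun h => hv (Units.ext h)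
      let τ : Fin 4 → Kˣ := fun a => if a = i then v else if a = j then v⁻¹ else 1
      have hτ : ∏ a, τ a = 1 := by
        rw [Finset.prod_eq_mul i j hij (fun a _ ha => by simp [τ, ha.1, ha.2]) (by simp) (by simp)]
        simp [τ, hij.symm]
      refine pair_eq_one_of_twist ξ hs hc hij hkl hil hjk (diagSL τ hτ) hne (fun a => ?_) (fun a => ?_) t u
      · rw [diagSL_conj τ hτ hij]
        simp [τ, hij.symm]
        ring_nf
      · rw [diagSL_conj τ hτ hkl]
        simp [τ, hik.symm, hil.symm, hjk.symm, hjl.symm]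

theorem commute_lifts {i j k l : Fin n} (hij : i ≠ j) (hkl : k ≠ l) (hil : i ≠ l) (hjk : j ≠ k)
    (t u : K) {x y : X} (hx : ξ x = (slData n K).y i j t) (hy : ξ y = (slData n K).y k l u) :
    Commute x y := by
  rw [← commutatorElement_eq_one_iff_commute,
    comm_eq_of_map_eq ξ hc (x' := L ξ hs i j t) (y' := L ξ hs k l u) (by rw [hx, L_spec])
      (by rw [hy, L_spec])]
  exact comm_lifts ξ hs hc hn hexc3 hexc4 hij hkl hil hjk t u

/-- The commutator of lifts along a chain `i, j, l`. -/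
theorem chain_spec {i j l : Fin n} (hij : i ≠ j) (hjl : j ≠ l) (hil : i ≠ l) (t u : K) :
    ξ ⁅L ξ hs i j t, L ξ hs j l u⁆ = (slData n K).y i l (t * u) := by
  rw [map_commutatorElement, L_spec, L_spec, (slData n K).brac hij hjl hil]

theorem chain_add_left {i j l : Fin n} (hij : i ≠ j) (hjl : j ≠ l) (hil : i ≠ l) (t t' u : K) :
    ⁅L ξ hs i j (t + t'), L ξ hs j l u⁆ = ⁅L ξ hs i j t, L ξ hs j l u⁆ * ⁅L ξ hs i j t', L ξ hs j l u⁆ := by
  rw [comm_eq_of_map_eq ξ hc (x' := L ξ hs i j t * L ξ hs i j t') (y' := L ξ hs j l u)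
    (by rw [L_spec, map_mul, L_spec, L_spec, (slData n K).add hij]) rfl]
  have h1 := commute_lifts ξ hs hc hn hexc3 hexc4 hij hil hil hij.symm t (t' * u) (L_spec ξ hs i j t)
    (chain_spec ξ hs hc hn hexc3 hexc4 hij hjl hil t' u)
  have h2 := commute_lifts ξ hs hc hn hexc3 hexc4 hil hil hil hil.symm (t * u) (t' * u)
    (chain_spec ξ hs hc hn hexc3 hexc4 hij hjl hil t u) (chain_spec ξ hs hc hn hexc3 hexc4 hij hjl hil t' u)
  rw [show ⁅L ξ hs i j t * L ξ hs i j t', L ξ hs j l u⁆ = L ξ hs i j t *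
      ⁅L ξ hs i j t', L ξ hs j l u⁆ * (L ξ hs i j t)⁻¹ * ⁅L ξ hs i j t, L ξ hs j l u⁆ by
    simp only [commutatorElement_def]; group, h1.eq, mul_inv_cancel_right]
  exact h2.eq.symm

theorem chain_add_right {i j l : Fin n} (hij : i ≠ j) (hjl : j ≠ l) (hil : i ≠ l) (t u u' : K) :
    ⁅L ξ hs i j t, L ξ hs j l (u + u')⁆ = ⁅L ξ hs i j t, L ξ hs j l u⁆ * ⁅L ξ hs i j t, L ξ hs j l u'⁆ := by
  rw [comm_eq_of_map_eq ξ hc (x' := L ξ hs i j t) (y' := L ξ hs j l u * L ξ hs j l u') rfl
    (by rw [L_spec, map_mul, L_spec, L_spec, (slData n K).add hjl])]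
  have h1 := commute_lifts ξ hs hc hn hexc3 hexc4 hjl hil hjl hil.symm u (t * u') (L_spec ξ hs j l u)
    (chain_spec ξ hs hc hn hexc3 hexc4 hij hjl hil t u')
  rw [show ⁅L ξ hs i j t, L ξ hs j l u * L ξ hs j l u'⁆ = ⁅L ξ hs i j t, L ξ hs j l u⁆ *
      (L ξ hs j l u * ⁅L ξ hs i j t, L ξ hs j l u'⁆ * (L ξ hs j l u)⁻¹) by
    simp only [commutatorElement_def]; group, h1.eq, mul_inv_cancel_right]

/-- The Hall–Witt consequence along four indices. -/
theorem chain_four {i m j l : Fin n} (him : i ≠ m) (hmj : m ≠ j) (hjl : j ≠ l) (hij : i ≠ j)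
    (hml : m ≠ l) (hil : i ≠ l) (a b c : K) :
    ⁅L ξ hs i j (a * b), L ξ hs j l c⁆ = ⁅L ξ hs i m a, L ξ hs m l (b * c)⁆ := by
  set A := L ξ hs i m a with hA
  set B := L ξ hs m j b with hB
  set C := L ξ hs j l c with hC
  have hAB := chain_spec ξ hs hc hn hexc3 hexc4 him hmj hij a b
  have hCB : ξ ⁅C, B⁆ = (slData n K).y m l (-(b * c)) := by
    rw [← commutatorElement_inv, map_inv, chain_spec ξ hs hc hn hexc3 hexc4 hmj hjl hml,
      (slData n K).y_neg hml]
  have hAC : Commute A C := commute_lifts ξ hs hc hn hexc3 hexc4 him hjl hil hmj a c (L_spec ξ hs i m a)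
    (L_spec ξ hs j l c)
  have hYAB : Commute ⁅C, B⁆ ⁅A, B⁆ :=
    commute_lifts ξ hs hc hn hexc3 hexc4 hml hij hmj hil.symm _ _ hCB hAB
  have e1 : C * ⁅A, B⁆ * C⁻¹ = ⁅A, ⁅C, B⁆⁆ * ⁅A, B⁆ := by
    rw [conjugate_commutatorElement, show C * A * C⁻¹ = A by rw [hAC.symm.eq, mul_inv_cancel_right],
      show C * B * C⁻¹ = ⁅C, B⁆ * B by rw [commutatorElement_def C B]; group,
      show ⁅A, ⁅C, B⁆ * B⁆ = ⁅A, ⁅C, B⁆⁆ * (⁅C, B⁆ * ⁅A, B⁆ * ⁅C, B⁆⁻¹) by
        simp only [commutatorElement_def]; group, hYAB.eq, mul_inv_cancel_right]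
  have e2 : ⁅⁅A, B⁆, C⁆ = ⁅A, ⁅C, B⁆⁆⁻¹ := by
    rw [← commutatorElement_inv, commutatorElement_def C, e1, mul_inv_cancel_right]
  have hY' : ξ ⁅C, B⁆⁻¹ = (slData n K).y m l (b * c) := by
    rw [map_inv, hCB, (slData n K).y_neg hml, neg_neg]
  have hAY : ξ ⁅A, ⁅C, B⁆⁻¹⁆ = (slData n K).y i l (a * (b * c)) := by
    rw [map_commutatorElement, L_spec, hY', (slData n K).brac him hml hil]
  have e3 : ⁅A, ⁅C, B⁆⁆⁻¹ = ⁅A, ⁅C, B⁆⁻¹⁆ := by
    have hc2 : Commute ⁅C, B⁆ ⁅A, ⁅C, B⁆⁻¹⁆ :=
      commute_lifts ξ hs hc hn hexc3 hexc4 hml hil hml hil.symm _ _ hCB hAY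
    refine inv_eq_of_mul_eq_one_right ?_
    have e4 : ⁅A, ⁅C, B⁆ * ⁅C, B⁆⁻¹⁆ = ⁅A, ⁅C, B⁆⁆ * (⁅C, B⁆ * ⁅A, ⁅C, B⁆⁻¹⁆ * ⁅C, B⁆⁻¹) := by
      simp only [commutatorElement_def]; group
    rw [mul_inv_cancel, commutatorElement_one_right, hc2.eq, mul_inv_cancel_right] at e4
    exact e4.symm
  calc ⁅L ξ hs i j (a * b), C⁆ = ⁅⁅A, B⁆, C⁆ :=
        comm_eq_of_map_eq ξ hc (by rw [L_spec, hAB]) rfl
    _ = ⁅A, ⁅C, B⁆⁻¹⁆ := e2.trans e3
    _ = _ := comm_eq_of_map_eq ξ hc rfl (by rw [hY', L_spec])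

/-- A torus element centralising the root `(i, l)` centralises its lifts (three indices). -/
theorem torus_commute (h3 : n = 3) {i l : Fin n} (hil : i ≠ l) (τ : Fin n → Kˣ)
    (hτ : ∏ a, τ a = 1) (he : τ i = τ l) {H x : X} (hH : ξ H = diagSL τ hτ) (a : K)
    (hx : ξ x = (slData n K).y i l a) : H * x * H⁻¹ = x := by
  classical
  subst h3
  have hfix : ∀ a, diagSL τ hτ * (slData 3 K).y i l a * (diagSL τ hτ)⁻¹ = (slData 3 K).y i l a := by
    intro a
    rw [diagSL_conj τ hτ hil, he, mul_inv_cancel₀ (τ l).ne_zero, one_mul]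
  obtain ⟨v, hv⟩ : ∃ v : Kˣ, v ≠ 1 := by
    obtain ⟨c, hc3⟩ := exists_unit_cube_ne_one (hexc3 rfl).1 (hexc3 rfl).2
    exact ⟨c, fun h => hc3 (by rw [h, one_pow])⟩
  obtain ⟨j, hji, hjl⟩ : ∃ j, i ≠ j ∧ l ≠ j := Data.exists_third le_rfl i l
  let σ : Fin 3 → Kˣ := fun b => if b = i then v else if b = j then v⁻¹ else 1
  have hσ : ∏ b, σ b = 1 := by
    rw [Finset.prod_eq_mul i j hji (fun a _ ha => by simp [σ, ha.1, ha.2]) (by simp) (by simp)]
    simp [σ, hji.symm]
  obtain ⟨H', hH'⟩ := hs (diagSL σ hσ)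
  have hcomHX : ∀ a, ⁅H, L ξ hs i l a⁆ ∈ Subgroup.center X := fun a => comm_mem_center ξ hc (by
    rw [hH, L_spec]
    exact (mul_inv_eq_iff_eq_mul.1 (hfix a)))
  have hadd : ∀ a b, ⁅H, L ξ hs i l (a + b)⁆ = ⁅H, L ξ hs i l a⁆ * ⁅H, L ξ hs i l b⁆ := fun a b => by
    rw [comm_eq_of_map_eq ξ hc (x' := H) (y' := L ξ hs i l a * L ξ hs i l b) rfl
      (by rw [L_spec, map_mul, L_spec, L_spec, (slData 3 K).add hil]), comm_mul_right (hcomHX b)]
  have hinv : ∀ a, ⁅H, L ξ hs i l ((v : K) * a)⁆ = ⁅H, L ξ hs i l a⁆ := by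
    intro a
    rw [comm_eq_of_map_eq ξ hc (x' := H' * H * H'⁻¹) (y' := H' * L ξ hs i l a * H'⁻¹)
      (by rw [map_mul, map_mul, map_inv, hH', hH, diagSL_commute σ τ hσ hτ, mul_inv_cancel_right])
      (by
        rw [L_spec, map_mul, map_mul, map_inv, hH', L_spec, diagSL_conj σ hσ hil]
        simp [σ, hil.symm, hjl]),
      ← conjugate_commutatorElement, Subgroup.mem_center_iff.1 (hcomHX a) H', mul_inv_cancel_right]
  have hne : (v : K) - 1 ≠ 0 := sub_ne_zero.2 fun h => hv (Units.ext h)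
  have h1 := hadd (((v : K) - 1) * (a / ((v : K) - 1))) (a / ((v : K) - 1))
  rw [show ((v : K) - 1) * (a / ((v : K) - 1)) + a / ((v : K) - 1) = (v : K) * (a / ((v : K) - 1)) by ring,
    hinv, mul_div_cancel₀ _ hne] at h1
  have h2 : ⁅H, L ξ hs i l a⁆ = 1 := (mul_right_cancel (a := (1 : X)) ((one_mul _).trans h1)).symm
  have h4 : ⁅H, x⁆ = 1 := by
    rw [comm_eq_of_map_eq ξ hc (x' := H) (y' := L ξ hs i l a) rfl (by rw [hx, L_spec]), h2]
  rw [mul_inv_eq_iff_eq_mul]
  exact commutatorElement_eq_one_iff_mul_comm.1 h4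

/-- Scalars move across a chain. -/
theorem chain_scalar {i j l : Fin n} (hij : i ≠ j) (hjl : j ≠ l) (hil : i ≠ l) (b t u : K) :
    ⁅L ξ hs i j (t * b), L ξ hs j l u⁆ = ⁅L ξ hs i j t, L ξ hs j l (b * u)⁆ := by
  classical
  rcases Nat.lt_or_ge n 4 with h3 | h4
  · obtain rfl : n = 3 := by omega
    let C : K → K → X := fun t u => ⁅L ξ hs i j t, L ξ hs j l u⁆
    have hl0 : ∀ u, C 0 u = 1 := fun u => mul_eq_left.1
      (by rw [← chain_add_left ξ hs hc hn hexc3 hexc4 hij hjl hil, add_zero] : C 0 u * C 0 u = C 0 u)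
    have hr0 : ∀ t, C t 0 = 1 := fun t => mul_eq_left.1
      (by rw [← chain_add_right ξ hs hc hn hexc3 hexc4 hij hjl hil, add_zero] : C t 0 * C t 0 = C t 0)
    have hl : ∀ t t' u, C (t + t') u = C t u * C t' u := fun t t' u =>
      chain_add_left ξ hs hc hn hexc3 hexc4 hij hjl hil t t' u
    have hr : ∀ t u u', C t (u + u') = C t u * C t u' := fun t u u' =>
      chain_add_right ξ hs hc hn hexc3 hexc4 hij hjl hil t u u'
    let B : AddSubgroup K :=
      { carrier := {b | ∀ t u, C (t * b) u = C t (b * u)}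
        zero_mem' := fun t u => by rw [mul_zero, zero_mul, hl0, hr0]
        add_mem' := fun {a b} ha hb t u => by rw [mul_add, add_mul, hl, hr, ha, hb]
        neg_mem' := fun {a} ha t u => by
          have h1 : C (t * a) u * C (t * -a) u = 1 := by rw [← hl, ← mul_add, add_neg_cancel, mul_zero, hl0]
          have h2 : C t (a * u) * C t (-a * u) = 1 := by rw [← hr, ← add_mul, add_neg_cancel, zero_mul, hr0]
          rw [← inv_eq_of_mul_eq_one_right h1, ← inv_eq_of_mul_eq_one_right h2, ha] }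
    refine eq_of_mem_cubes (hexc3 rfl).2 B (fun t u => by rw [mul_one, one_mul])
      (fun a ha c hb t u => ?_) (fun c t u => ?_) b t u
    · rw [← mul_assoc, hb, ha, mul_assoc]
    · let τ : Fin 3 → Kˣ := fun a => if a = j then (c ^ 2)⁻¹ else c
      have hτ : ∏ a, τ a = 1 := by
        rw [← Finset.mul_prod_erase Finset.univ τ (Finset.mem_univ j),
          Finset.prod_congr rfl (g := fun _ => c) fun a ha => if_neg (Finset.ne_of_mem_erase ha),
          Finset.prod_const, Finset.card_erase_of_mem (Finset.mem_univ j)]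
        simp [τ]
      obtain ⟨H, hH⟩ := hs (diagSL τ hτ)
      have hmove : ∀ a b, C ((c : K) ^ 3 * a) (((c : K) ^ 3)⁻¹ * b) = C a b := by
        intro a b
        show ⁅_, _⁆ = ⁅_, _⁆
        rw [comm_eq_of_map_eq ξ hc (x' := H * L ξ hs i j a * H⁻¹) (y' := H * L ξ hs j l b * H⁻¹)
          (by
            rw [L_spec, map_mul, map_mul, map_inv, hH, L_spec, diagSL_conj τ hτ hij]
            simp [τ, hij]
            ring_nf)
          (by
            rw [L_spec, map_mul, map_mul, map_inv, hH, L_spec, diagSL_conj τ hτ hjl]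
            simp [τ, hjl.symm]
            ring_nf),
          ← conjugate_commutatorElement]
        exact torus_commute ξ hs hc hn hexc3 hexc4 rfl hil τ hτ (by simp [τ, hij, hjl.symm]) hH _
          (chain_spec ξ hs hc hn hexc3 hexc4 hij hjl hil a b)
      have := hmove t ((c : K) ^ 3 * u)
      rw [inv_mul_cancel_left₀ (pow_ne_zero 3 c.ne_zero), mul_comm ((c : K) ^ 3) t] at this
      exact this
  · obtain ⟨m, hm⟩ := exists_outside (s := {i, j, l})
      (lt_of_le_of_lt Finset.card_le_three (by omega))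
    simp only [Finset.mem_insert, Finset.mem_singleton, not_or] at hm
    have e1 := chain_four ξ hs hc hn hexc3 hexc4 (Ne.symm hm.1) hm.2.1 hjl hij hm.2.2 hil t b u
    have e2 := chain_four ξ hs hc hn hexc3 hexc4 (Ne.symm hm.1) hm.2.1 hjl hij hm.2.2 hil t 1 (b * u)
    rw [mul_one, one_mul] at e2
    exact e1.trans e2.symm

/-- Chains through different middle indices agree. -/
theorem chain_indep {i j m l : Fin n} (hij : i ≠ j) (hjl : j ≠ l) (him : i ≠ m) (hml : m ≠ l)
    (hil : i ≠ l) (t u : K) :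
    ⁅L ξ hs i j t, L ξ hs j l u⁆ = ⁅L ξ hs i m (t * u), L ξ hs m l 1⁆ := by
  have e : ⁅L ξ hs i j t, L ξ hs j l u⁆ = ⁅L ξ hs i j (t * u), L ξ hs j l 1⁆ := by
    rw [chain_scalar ξ hs hc hn hexc3 hexc4 hij hjl hil u t 1, mul_one]
  rcases eq_or_ne m j with rfl | hmj
  · exact e
  have h := chain_four ξ hs hc hn hexc3 hexc4 him hmj hjl hij hml hil (t * u) 1 1
  rw [mul_one, one_mul] at h
  exact e.trans h

/-- The root elements in the extension. -/
theorem exists_liftData :
    ∃ D : Data n K X, ∀ ⦃i j : Fin n⦄, i ≠ j → ∀ t, ξ (D.y i j t) = (slData n K).y i j t := by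
  classical
  choose mid hmi hml using fun i l : Fin n => Data.exists_third hn i l
  let y : Fin n → Fin n → K → X := fun i l t => ⁅L ξ hs i (mid i l) t, L ξ hs (mid i l) l 1⁆
  have hspec : ∀ {i l : Fin n}, i ≠ l → ∀ t, ξ (y i l t) = (slData n K).y i l t := by
    intro i l hil t
    rw [chain_spec ξ hs hc hn hexc3 hexc4 (hmi i l) (hml i l).symm hil, mul_one]
  refine ⟨{ y := y, add := ?_, comm := ?_, brac := ?_ }, fun i j h t => hspec h t⟩
  · intro i l hil t u
    exact (chain_add_left ξ hs hc hn hexc3 hexc4 (hmi i l) (hml i l).symm hil t u 1).symm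
  · intro i j k l hij hkl hil hjk t u
    exact commute_lifts ξ hs hc hn hexc3 hexc4 hij hkl hil hjk t u (hspec hij t) (hspec hkl u)
  · intro i j l hij hjl hil t u
    rw [comm_eq_of_map_eq ξ hc (x' := L ξ hs i j t) (y' := L ξ hs j l u)
      (by rw [hspec hij, L_spec]) (by rw [hspec hjl, L_spec])]
    exact chain_indep ξ hs hc hn hexc3 hexc4 hij hjl (hmi i l) (hml i l).symm hil t u

end lifts

/-- `SLₙ(q)` has trivial multiplier. -/
theorem multiplier_sl [Finite K] (hn : 3 ≤ n) (hexc3 : n = 3 → Nat.card K ≠ 2 ∧ Nat.card K ≠ 4)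
    (hexc4 : n = 4 → Nat.card K ≠ 2) : Cfsg.HasCyclicSchurMultiplier (SpecialLinearGroup (Fin n) K) 1 := by
  classical
  obtain ⟨r, rfl⟩ : ∃ r, n = r + 2 := ⟨n - 2, by omega⟩
  refine Schur.hasCyclicSchurMultiplier_one_of fun X _ ξ hs hc => ?_
  obtain ⟨D, hD⟩ := exists_liftData ξ hs hc hn hexc3 hexc4
  obtain ⟨π, hπ⟩ := exists_toSL (r + 2) K
  obtain ⟨f, hf⟩ := exists_hom_of_data D
  have hb := toSL_bijective r (by omega) π hπ
  have hcomp : ξ.comp f = π := by
    refine PresentedGroup.ext fun p => ?_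
    obtain ⟨a, t⟩ := p
    rw [MonoidHom.comp_apply, hf, hπ, hD a.2, slData_y a.2]
  let e := MulEquiv.ofBijective π hb
  let η : SpecialLinearGroup (Fin (r + 2)) K →* X := f.comp e.symm.toMonoidHom
  have hη : ∀ g, ξ (η g) = g := fun g =>
    (DFunLike.congr_fun hcomp (e.symm g)).trans (e.apply_symm_apply g)
  rw [eq_bot_iff]
  rintro z ⟨hz, hzc⟩
  have hle : commutator X ≤ η.range := by
    rw [commutator_eq_closure, Subgroup.closure_le]
    rintro _ ⟨a, b, rfl⟩
    refine ⟨⁅ξ a, ξ b⁆, ?_⟩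
    rw [map_commutatorElement]
    exact comm_eq_of_map_eq ξ hc (hη _) (hη _)
  obtain ⟨g, rfl⟩ := hle hzc
  have hg : g = 1 := (hη g).symm.trans hz
  rw [hg, map_one]
  exact one_mem _

end Cfsg.Agent.SLPres
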