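import Cfsg.Agent.Lib.SLPres.Orbit

/-!
The Steinberg presentation of `SLₙ` over a finite field, `n ≥ 3`.
-/

set_option autoImplicit false
set_option linter.style.haveILetI false

namespace Cfsg.Agent.SLPres

open Matrix
open scoped commutatorElement

variable (n : ℕ) (K : Type*) [Field K]

/-- The Steinberg relators. -/
abbrev rels : Set (FreeGroup ({ij : Fin n × Fin n // ij.1 ≠ ij.2} × K)) :=
  {g : FreeGroup ({ij : Fin n × Fin n // ij.1 ≠ ij.2} × K) | ∃ (a : {ij : Fin n × Fin n // ij.1 ≠ ij.2}) (t u : K),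
      g = FreeGroup.of (a, t) * FreeGroup.of (a, u) * (FreeGroup.of (a, t + u))⁻¹} ∪
    {g | ∃ (a b : {ij : Fin n × Fin n // ij.1 ≠ ij.2}) (t u : K), a.1.1 ≠ b.1.2 ∧ a.1.2 ≠ b.1.1 ∧
      g = FreeGroup.of (a, t) * FreeGroup.of (b, u) * (FreeGroup.of (a, t))⁻¹ * (FreeGroup.of (b, u))⁻¹} ∪
    {g | ∃ (a b : {ij : Fin n × Fin n // ij.1 ≠ ij.2}) (h : a.1.1 ≠ b.1.2) (t u : K), a.1.2 = b.1.1 ∧
      g = FreeGroup.of (a, t) * FreeGroup.of (b, u) * (FreeGroup.of (a, t))⁻¹ * (FreeGroup.of (b, u))⁻¹ *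
        (FreeGroup.of (⟨(a.1.1, b.1.2), h⟩, t * u))⁻¹}

variable {n K}

/-- The generator of a root. -/
def gen (i j : Fin n) (t : K) : PresentedGroup (rels n K) :=
  if h : i ≠ j then PresentedGroup.of (⟨(i, j), h⟩, t) else 1

theorem gen_eq {i j : Fin n} (h : i ≠ j) (t : K) :
    gen i j t = PresentedGroup.of (rels := rels n K) (⟨(i, j), h⟩, t) := dif_pos h

/-- The presented group carries Steinberg data. -/
def presData (n : ℕ) (K : Type*) [Field K] : Data n K (PresentedGroup (rels n K)) where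
  y := gen
  add i j h t u := by
    rw [gen_eq h, gen_eq h, gen_eq h]
    exact mul_inv_eq_one.1 (PresentedGroup.one_of_mem (Or.inl (Or.inl ⟨_, t, u, rfl⟩)))
  comm i j k l hij hkl hil hjk t u := by
    rw [gen_eq hij, gen_eq hkl]
    exact commutatorElement_eq_one_iff_commute.1
      (PresentedGroup.one_of_mem (Or.inl (Or.inr ⟨_, _, t, u, hil, hjk, rfl⟩)))
  brac i j l hij hjl hil t u := by
    rw [gen_eq hij, gen_eq hjl, gen_eq hil, commutatorElement_def]
    exact mul_inv_eq_one.1 (PresentedGroup.one_of_mem (Or.inr ⟨_, _, hil, t, u, rfl, rfl⟩))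

theorem presData_y {i j : Fin n} (h : i ≠ j) (t : K) :
    (presData n K).y i j t = PresentedGroup.of (⟨(i, j), h⟩, t) := gen_eq h t

theorem presData_gen :
    Subgroup.closure {g | ∃ (i j : Fin n) (t : K), i ≠ j ∧ g = (presData n K).y i j t} = ⊤ := by
  rw [eq_top_iff, ← PresentedGroup.closure_range_of, Subgroup.closure_le]
  rintro _ ⟨⟨⟨⟨i, j⟩, h⟩, t⟩, rfl⟩
  exact Subgroup.subset_closure ⟨i, j, t, h, (gen_eq h t).symm⟩

/-- Universal property of the presented group. -/
theorem exists_hom_of_data {G : Type*} [Group G] (D : Data n K G) :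
    ∃ f : PresentedGroup (rels n K) →* G, ∀ (a : {ij : Fin n × Fin n // ij.1 ≠ ij.2}) (t : K),
      f (PresentedGroup.of (a, t)) = D.y a.1.1 a.1.2 t := by
  let φ : {ij : Fin n × Fin n // ij.1 ≠ ij.2} × K → G := fun p => D.y p.1.1.1 p.1.1.2 p.2
  have hφ : ∀ g ∈ rels n K, FreeGroup.lift φ g = 1 := by
    rintro g ((⟨a, t, u, rfl⟩ | ⟨a, b, t, u, h1, h2, rfl⟩) | ⟨a, b, h, t, u, h2, rfl⟩)
    · simp only [map_mul, map_inv, FreeGroup.lift_apply_of, mul_inv_eq_one]
      exact D.add a.2 t u
    · simp only [map_mul, map_inv, FreeGroup.lift_apply_of]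
      exact commutatorElement_eq_one_iff_commute.2 (D.comm a.2 b.2 h1 h2 t u)
    · simp only [map_mul, map_inv, FreeGroup.lift_apply_of, mul_inv_eq_one]
      show ⁅D.y a.1.1 a.1.2 t, D.y b.1.1 b.1.2 u⁆ = D.y a.1.1 b.1.2 (t * u)
      rw [← h2]
      exact D.brac a.2 (by rw [h2]; exact b.2) h t u
  exact ⟨PresentedGroup.toGroup hφ, fun a t => PresentedGroup.toGroup.of hφ⟩

/-- The root data of `SLₙ`. -/
def slData (n : ℕ) (K : Type*) [Field K] : Data n K (SpecialLinearGroup (Fin n) K) where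
  y i j t := if h : i ≠ j then SpecialLinearGroup.transvection h t else 1
  add i j h t u := by
    rw [dif_pos h, dif_pos h, dif_pos h]
    apply Subtype.ext
    show ((1 : Matrix (Fin n) (Fin n) K) + Matrix.single i j t) * (1 + Matrix.single i j u) =
      1 + Matrix.single i j (t + u)
    simp [mul_add, add_mul, h.symm, Matrix.single_add]
    abel
  comm i j k l hij hkl hil hjk t u := by
    rw [dif_pos hij, dif_pos hkl]
    apply Subtype.ext
    show ((1 : Matrix (Fin n) (Fin n) K) + Matrix.single i j t) * (1 + Matrix.single k l u) =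
      (1 + Matrix.single k l u) * (1 + Matrix.single i j t)
    simp [mul_add, add_mul, hjk, hil.symm]
    abel
  brac i j l hij hjl hil t u := by
    rw [dif_pos hij, dif_pos hjl, dif_pos hil]
    exact ClassicalSL.commutator_transvection hil hij hjl t u

theorem slData_y {i j : Fin n} (h : i ≠ j) (t : K) :
    (slData n K).y i j t = SpecialLinearGroup.transvection h t := dif_pos h

/-- The canonical map. -/
theorem exists_toSL (n : ℕ) (K : Type*) [Field K] :
    ∃ π : PresentedGroup (rels n K) →* SpecialLinearGroup (Fin n) K,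
      ∀ (a : {ij : Fin n × Fin n // ij.1 ≠ ij.2}) (t : K),
        π (PresentedGroup.of (a, t)) = SpecialLinearGroup.transvection a.2 t := by
  obtain ⟨f, hf⟩ := exists_hom_of_data (slData n K)
  exact ⟨f, fun a t => (hf a t).trans (slData_y a.2 t)⟩

theorem toSL_surjective [Nontrivial (Fin n)] (π : PresentedGroup (rels n K) →* SpecialLinearGroup (Fin n) K)
    (hπ : ∀ (a : {ij : Fin n × Fin n // ij.1 ≠ ij.2}) (t : K),
      π (PresentedGroup.of (a, t)) = SpecialLinearGroup.transvection a.2 t) : Function.Surjective π := by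
  rw [← MonoidHom.range_eq_top, eq_top_iff, ← ClassicalSL.closure_elemTransvections, Subgroup.closure_le]
  rintro _ ⟨i, j, h, c, rfl⟩
  exact ⟨PresentedGroup.of (⟨(i, j), h⟩, c), hπ ⟨(i, j), h⟩ c⟩

theorem card_sl_succ [Finite K] (m : ℕ) [NeZero m] :
    Nat.card (SpecialLinearGroup (Fin (m + 1)) K) =
      (Nat.card K ^ (m + 1) - 1) * Nat.card K ^ m * Nat.card (SpecialLinearGroup (Fin m) K) := by
  haveI : Nonempty (Fin m) := ⟨0⟩
  have h1 := ClassicalSL.card_sl_mul (ι := Fin (m + 1)) (F := K)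
  have h2 := ClassicalSL.card_sl_mul (ι := Fin m) (F := K)
  rw [ClassicalSL.card_gl_fin rfl] at h1 h2
  rw [Fin.prod_univ_succ] at h1
  have h3 : ∀ i : Fin m, Nat.card K ^ (m + 1) - Nat.card K ^ ((i.succ : Fin (m + 1)) : ℕ) =
      Nat.card K * (Nat.card K ^ m - Nat.card K ^ (i : ℕ)) := fun i => by
    rw [Fin.val_succ, Nat.mul_sub, pow_succ', pow_succ']
  simp only [h3, Finset.prod_mul_distrib, Finset.prod_const, Finset.card_univ, Fintype.card_fin,
    Fin.val_zero, pow_zero, ← h2] at h1
  have hpos : 0 < Nat.card K - 1 := by have := Finite.one_lt_card (α := K); omega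
  exact Nat.eq_of_mul_eq_mul_left hpos (h1.trans (by ring))

section bound

open Orbit

variable [Finite K] {r : ℕ} {G : Type*} [Group G] (D : Data (r + 2) K G)

theorem card_le_of_hom (hr : 1 ≤ r)
    (hgen : Subgroup.closure {g | ∃ (i j : Fin (r + 2)) (t : K), i ≠ j ∧ g = D.y i j t} = ⊤)
    (ψ : SpecialLinearGroup (Fin (r + 1)) K →* G)
    (hψ : ∀ (i j : Fin (r + 1)) (h : i ≠ j) (t : K),
      ψ (SpecialLinearGroup.transvection h t) = D.y i.castSucc j.castSucc t) :
    Finite G ∧ Nat.card G ≤ Nat.card (SpecialLinearGroup (Fin (r + 2)) K) := by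
  classical
  haveI := Fintype.ofFinite K
  haveI : Nontrivial (Fin (r + 1)) := Fin.nontrivial_iff_two_le.2 (by omega)
  have hH : Hsub D ≤ ψ.range := by
    rw [Hsub, Subgroup.closure_le]
    rintro _ ⟨a, b, t, hab, ha, hb, rfl⟩
    obtain ⟨i, rfl⟩ : ∃ i : Fin (r + 1), i.castSucc = a := Fin.exists_castSucc_eq.2 ha
    obtain ⟨j, rfl⟩ : ∃ j : Fin (r + 1), j.castSucc = b := Fin.exists_castSucc_eq.2 hb
    exact ⟨_, hψ i j (fun e => hab (congrArg _ e)) t⟩
  have hψH : ∀ g, ψ g ∈ Hsub D := by
    intro g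
    have hg : g ∈ Subgroup.closure (ClassicalSL.elemTransvections (Fin (r + 1)) K) := by
      rw [ClassicalSL.closure_elemTransvections]; trivial
    refine (Subgroup.closure_le (K := (Hsub D).comap ψ)).2 ?_ hg
    rintro _ ⟨i, j, h, c, rfl⟩
    rw [SetLike.mem_coe, Subgroup.mem_comap, hψ i j h c]
    exact mem_Hsub D (castSucc_inj_ne h) (castSucc_ne_z i) (castSucc_ne_z j) c
  -- the stabiliser is small
  have hN : ψ.range ≤ Subgroup.normalizer ((rowHom' D).range : Set G) := by
    rintro _ ⟨g, rfl⟩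
    exact Hsub_normalizes D _ (fun a b hab ha hb t y hy => conj_row D hab ha hb t hy) (hψH g)
  have hP : (Pst D : Set G) ⊆ Set.range (fun p : (Fin (r + 1) → Multiplicative K) ×
      SpecialLinearGroup (Fin (r + 1)) K => rowHom' D p.1 * ψ p.2) := by
    have hle : Pst D ≤ (rowHom' D).range ⊔ ψ.range := by
      rw [Pst, Subgroup.closure_le]
      rintro _ ⟨a, b, t, hab, hb, rfl⟩
      rcases eq_or_ne a (z r) with rfl | ha
      · exact Subgroup.mem_sup_left (row_mem_range D b hb t)
      · exact Subgroup.mem_sup_right (hH (mem_Hsub D hab ha hb t))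
    intro g hg
    have h2 : g ∈ (((rowHom' D).range ⊔ ψ.range : Subgroup G) : Set G) := hle hg
    rw [Subgroup.coe_mul_of_right_le_normalizer_left _ _ hN] at h2
    obtain ⟨_, ⟨v, rfl⟩, _, ⟨x, rfl⟩, rfl⟩ := h2
    exact ⟨(v, x), rfl⟩
  haveI hPfin : Finite (Pst D) := ((Set.finite_range _).subset hP).to_subtype
  have hPcard : Nat.card (Pst D) ≤
      Nat.card K ^ (r + 1) * Nat.card (SpecialLinearGroup (Fin (r + 1)) K) := by
    calc Nat.card (Pst D) = Set.ncard (Pst D : Set G) := rfl
      _ ≤ _ := Set.ncard_le_ncard hP (Set.finite_range _)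
      _ ≤ Nat.card ((Fin (r + 1) → Multiplicative K) × SpecialLinearGroup (Fin (r + 1)) K) := by
          rw [← Nat.card_coe_set_eq]
          exact Finite.card_range_le _
      _ = _ := by
          rw [Nat.card_prod, Nat.card_fun, Nat.card_fin, Nat.card_congr Multiplicative.toAdd]
  -- the cosets
  let f : SpecialLinearGroup (Fin (r + 1)) K → G ⧸ Pst D := fun g => QuotientGroup.mk (ψ g * wd D)
  have hK : ∀ k ∈ colStab r K, (wd D)⁻¹ * ψ k * wd D ∈ Pst D := by
    intro k hk
    have hle : colStab r K ≤ ((Pst D).comap (MulAut.conj (wd D)⁻¹).toMonoidHom).comap ψ := by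
      rw [colStab, Subgroup.closure_le]
      rintro _ ⟨i, j, h, t, hj, rfl⟩
      show (wd D)⁻¹ * ψ (SpecialLinearGroup.transvection h t) * (wd D)⁻¹⁻¹ ∈ Pst D
      rw [inv_inv, hψ i j h t, wd_conj]
      have hb := castSucc_ne_z j
      have hab := castSucc_inj_ne h
      have hb0 : j.castSucc ≠ 0 := castSucc_inj_ne hj
      have h1 : (-1 : K) ≠ 0 := neg_ne_zero.2 one_ne_zero
      rcases eq_or_ne i 0 with rfl | hi
      · show D.w 0 (z r) (-1) * D.y 0 j.castSucc t * (D.w 0 (z r) (-1))⁻¹ ∈ Pst D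
        rw [D.w_ik zero_ne_z hb0.symm hb.symm _ _ h1]
        exact mem_Pst D hb.symm hb _
      · rw [D.w_conj_fix zero_ne_z hab (castSucc_inj_ne hi) (castSucc_ne_z i) hb0 hb]
        exact mem_Pst D hab hb _
    simpa using hle hk
  let V := {v : Fin (r + 1) → K // v ≠ 0}
  let col : SpecialLinearGroup (Fin (r + 1)) K → (Fin (r + 1) → K) := fun g a => g.1 a 0
  have hf : ∀ g g', col g = col g' → f g = f g' := by
    intro g g' he
    show QuotientGroup.mk _ = QuotientGroup.mk _
    rw [QuotientGroup.eq]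
    have hmul : ∀ a, (g⁻¹ * g').1 a 0 = (1 : Matrix (Fin (r + 1)) (Fin (r + 1)) K) a 0 := by
      intro a
      have h2 : (g⁻¹ * g).1 a 0 = (1 : Matrix (Fin (r + 1)) (Fin (r + 1)) K) a 0 := by
        rw [inv_mul_cancel]; rfl
      rw [← h2]
      show (g⁻¹.1 * g'.1) a 0 = (g⁻¹.1 * g.1) a 0
      simp only [Matrix.mul_apply]
      exact Finset.sum_congr rfl fun b _ => by rw [show g'.1 b 0 = g.1 b 0 from (congrFun he b).symm]
    have hk : g⁻¹ * g' ∈ colStab r K := mem_colStab ((hmul 0).trans (Matrix.one_apply_eq 0))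
      fun a => (hmul a.succ).trans (Matrix.one_apply_ne (Fin.succ_ne_zero a))
    rw [show (ψ g * wd D)⁻¹ * (ψ g' * wd D) = (wd D)⁻¹ * ψ (g⁻¹ * g') * wd D by
      rw [map_mul, map_inv]; group]
    exact hK _ hk
  let F : V → G ⧸ Pst D := fun v => if h : ∃ g, col g = v.1 then f h.choose else QuotientGroup.mk 1
  have hF : ∀ g, ∃ v : V, F v = f g := by
    intro g
    have hne : col g ≠ 0 := fun h0 => by
      have : (g.1).det = 0 := Matrix.det_eq_zero_of_column_eq_zero 0 fun a => congrFun h0 a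
      rw [g.2] at this
      exact one_ne_zero this
    refine ⟨⟨col g, hne⟩, ?_⟩
    have h : ∃ g', col g' = col g := ⟨g, rfl⟩
    simp only [F, dif_pos h]
    exact hf _ _ h.choose_spec
  let S : ((Fin (r + 1) → Multiplicative K) × Kˣ) ⊕ V → G ⧸ Pst D :=
    Sum.elim (fun p => QuotientGroup.mk (colHom D p.1 * phiZ D hr (dS p.2))) F
  have hS : Function.Surjective S := by
    intro q
    obtain ⟨g, rfl⟩ := QuotientGroup.mk_surjective q
    rcases mem_cosetSet D hr hgen g with ⟨v, c, h⟩ | ⟨h, hh, hg⟩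
    · exact ⟨Sum.inl (v, c), QuotientGroup.eq.2 h⟩
    · obtain ⟨x, rfl⟩ := hH hh
      obtain ⟨v, hv⟩ := hF x
      exact ⟨Sum.inr v, hv.trans (QuotientGroup.eq.2 hg)⟩
  haveI : Finite (G ⧸ Pst D) := Finite.of_surjective S hS
  have hV : Nat.card V = Nat.card K ^ (r + 1) - 1 := by
    rw [Nat.card_eq_fintype_card, Fintype.card_subtype_compl, Fintype.card_subtype_eq,
      Fintype.card_fun, Fintype.card_fin, Nat.card_eq_fintype_card]
  have hQ : Nat.card (G ⧸ Pst D) ≤ Nat.card K ^ (r + 2) - 1 := by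
    refine (Nat.card_le_card_of_surjective S hS).trans (le_of_eq ?_)
    rw [Nat.card_sum, Nat.card_prod, Nat.card_fun, Nat.card_fin, Nat.card_congr Multiplicative.toAdd,
      Nat.card_units, hV, pow_succ _ (r + 1), Nat.mul_sub, mul_one]
    have h1 : Nat.card K ^ (r + 1) ≤ Nat.card K ^ (r + 1) * Nat.card K :=
      Nat.le_mul_of_pos_right _ Nat.card_pos
    have h2 : 1 ≤ Nat.card K ^ (r + 1) := Nat.one_le_pow _ _ Nat.card_pos
    omega
  haveI : Finite G := Finite.of_equiv _ (Subgroup.groupEquivQuotientProdSubgroup (s := Pst D)).symm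
  refine ⟨inferInstance, ?_⟩
  rw [Nat.card_congr (Subgroup.groupEquivQuotientProdSubgroup (s := Pst D)), Nat.card_prod,
    card_sl_succ (r + 1), mul_assoc]
  exact Nat.mul_le_mul hQ hPcard

end bound

/-- Steinberg: the presented group is `SLₙ`. -/
theorem toSL_bijective [Finite K] (r : ℕ) (hr : 1 ≤ r) :
    ∀ π : PresentedGroup (rels (r + 2) K) →* SpecialLinearGroup (Fin (r + 2)) K,
      (∀ (a : {ij : Fin (r + 2) × Fin (r + 2) // ij.1 ≠ ij.2}) (t : K),
        π (PresentedGroup.of (a, t)) = SpecialLinearGroup.transvection a.2 t) → Function.Bijective π := by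
  induction r, hr using Nat.le_induction with
  | base =>
    intro π hπ
    haveI : Nontrivial (Fin 3) := inferInstance
    have hs := toSL_surjective π hπ
    let ψ := (presData 3 K).phi (le_refl 3) (show (0 : Fin 3) ≠ 1 by decide)
    have hψ : ∀ (i j : Fin 2) (h : i ≠ j) (t : K),
        ψ (SpecialLinearGroup.transvection h t) = (presData 3 K).y i.castSucc j.castSucc t := by
      intro i j h t
      fin_cases i <;> fin_cases j <;> first | exact absurd rfl h | skip
      · rw [show SpecialLinearGroup.transvection h t = SL2Pres.up t by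
          apply Subtype.ext
          rw [SpecialLinearGroup.transvection_coe]
          ext a b
          fin_cases a <;> fin_cases b <;> simp [SL2Pres.up, Matrix.single_apply]]
        exact (presData 3 K).phi_up _ _ t
      · rw [show SpecialLinearGroup.transvection h t = SL2Pres.low t by
          apply Subtype.ext
          rw [SpecialLinearGroup.transvection_coe]
          ext a b
          fin_cases a <;> fin_cases b <;> simp [SL2Pres.low, Matrix.single_apply]]
        exact (presData 3 K).phi_low _ _ t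
    obtain ⟨hfin, hle⟩ := card_le_of_hom (presData 3 K) le_rfl presData_gen ψ hψ
    exact hs.bijective_of_nat_card_le hle
  | succ r hr ih =>
    intro π hπ
    haveI : Nontrivial (Fin (r + 1 + 2)) := Fin.nontrivial_iff_two_le.2 (by omega)
    have hs := toSL_surjective π hπ
    obtain ⟨π₀, hπ₀⟩ := exists_toSL (r + 2) K
    let e := MulEquiv.ofBijective π₀ (ih π₀ hπ₀)
    let D := presData (r + 1 + 2) K
    let D₀ : Data (r + 2) K (PresentedGroup (rels (r + 1 + 2) K)) :=
      { y := fun i j t => D.y i.castSucc j.castSucc t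
        add := fun i j h t u => D.add (Fin.castSucc_injective _ |>.ne h) t u
        comm := fun i j k l hij hkl hil hjk t u => D.comm (Fin.castSucc_injective _ |>.ne hij)
          (Fin.castSucc_injective _ |>.ne hkl) (Fin.castSucc_injective _ |>.ne hil)
          (Fin.castSucc_injective _ |>.ne hjk) t u
        brac := fun i j l hij hjl hil t u => D.brac (Fin.castSucc_injective _ |>.ne hij)
          (Fin.castSucc_injective _ |>.ne hjl) (Fin.castSucc_injective _ |>.ne hil) t u }
    obtain ⟨f, hf⟩ := exists_hom_of_data D₀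
    obtain ⟨hfin, hle⟩ := card_le_of_hom (r := r + 1) D (by omega) presData_gen
      (f.comp e.symm.toMonoidHom) fun i j h t => by
        have : e.symm (SpecialLinearGroup.transvection h t) =
            PresentedGroup.of (⟨(i, j), h⟩, t) := e.symm_apply_eq.2 (hπ₀ ⟨(i, j), h⟩ t).symm
        rw [MonoidHom.comp_apply, MulEquiv.coe_toMonoidHom, this]
        exact hf ⟨(i, j), h⟩ t
    exact hs.bijective_of_nat_card_le hle

end Cfsg.Agent.SLPres
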