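import Mathlib
import Cfsg.Agent.Lib.SLPres.Main
import Cfsg.Agent.Lib.SL2Pres.Additive
import Cfsg.Agent.Lib.SL2Pres.FieldGen

/-!
A short presentation of `SL₃(q)` on four generators: a transvection `x`, a torus element
`d = diag(1, 1/j, j)`, a three-cycle `c` and a monomial element `w`.
-/

set_option autoImplicit false
set_option linter.unusedSimpArgs false
set_option linter.style.haveILetI false

namespace Cfsg.Agent.SLPres.Short

open Polynomial
open SL2Pres (cj word)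
open scoped commutatorElement

variable {K : Type*} [Field K]

/-- The relations, as they are used. -/
structure Rel {G : Type*} [Group G] (p : ℕ) (j : Kˣ) (f : ℤ[X]) (k : ℕ) (S : Set K) (PS : K → ℤ[X])
    (x d c w : G) : Prop where
  hc : ∀ i : ℤ, Commute x (cj x d (i * 1))
  xp : x ^ p = 1
  fx : word x d 1 f = 1
  de : Commute d (c * d * c⁻¹)
  prod : d * (c * d * c⁻¹) * (c * (c * d * c⁻¹) * c⁻¹) = 1
  act : c * d * c⁻¹ * x * (c * d * c⁻¹)⁻¹ = d * x * d⁻¹
  c3 : c * c * c = 1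
  wcw : w * c * w⁻¹ = c * c * d ^ k
  wdw : w * d * w⁻¹ = (c * d * c⁻¹)⁻¹
  w2x : Commute (w * w) x
  braid : w = x * (w * x * w⁻¹) * x
  r4 : ∀ s ∈ S, ⁅word x d 1 (PS s), c * x * c⁻¹⁆ =
    c * (c * (w * (word x d 1 (PS s))⁻¹ * w⁻¹) * c⁻¹) * c⁻¹
  r5 : ∀ s ∈ S, Commute x (c * (c * (w * (word x d 1 (PS s))⁻¹ * w⁻¹) * c⁻¹) * c⁻¹)

variable {G : Type*} [Group G]

theorem conj_zpow_mult {g : G} {u : Kˣ} {Y : K → G} (h : ∀ t : K, g * Y t * g⁻¹ = Y ((u : K) * t))
    (m : ℤ) (t : K) : g ^ m * Y t * (g ^ m)⁻¹ = Y (((u ^ m : Kˣ) : K) * t) := by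
  induction m generalizing t with
  | zero => simp
  | succ m ih =>
    rw [zpow_add_one, show g ^ (m : ℤ) * g * Y t * (g ^ (m : ℤ) * g)⁻¹ =
      g ^ (m : ℤ) * (g * Y t * g⁻¹) * (g ^ (m : ℤ))⁻¹ by group, h, ih, zpow_add_one]
    simp [mul_assoc]
  | pred m ih =>
    have h' : g⁻¹ * Y t * g = Y ((u : K)⁻¹ * t) := by
      have h2 := h ((u : K)⁻¹ * t)
      rw [← mul_assoc, mul_inv_cancel₀ (Units.ne_zero u), one_mul] at h2
      rw [← h2]; group
    rw [zpow_sub_one, show g ^ (-(m : ℤ)) * g⁻¹ * Y t * (g ^ (-(m : ℤ)) * g⁻¹)⁻¹ =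
      g ^ (-(m : ℤ)) * (g⁻¹ * Y t * g) * (g ^ (-(m : ℤ)))⁻¹ by group, h', ih, zpow_sub_one]
    simp [mul_assoc]

theorem cj' (g a b : G) : g * ⁅a, b⁆ * g⁻¹ = ⁅g * a * g⁻¹, g * b * g⁻¹⁆ :=
  conjugate_commutatorElement _ _ _

theorem conj_comm' (g : G) {a b : G} (h : Commute a b) :
    Commute (g * a * g⁻¹) (g * b * g⁻¹) :=
  (Commute.conj_iff g).2 h

variable [Finite K] {p : ℕ} [Fact p.Prime] [CharP K p] {j : Kˣ} {f : ℤ[X]} {k : ℕ} {S : Set K}
  {PS : K → ℤ[X]} {x d c w : G}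

set_option maxHeartbeats 1600000 in
theorem exists_data (R : Rel p j f k S PS x d c w) (hj : ∀ t, t ∈ Subgroup.zpowers j)
    (hB : Algebra.adjoin ℤ {(j : K)} = (⊤ : Subalgebra ℤ K))
    (hf : ∀ P : ℤ[X], aeval (j : K) P = 0 → ∃ Q R : ℤ[X], P = f * Q + C (p : ℤ) * R)
    (hk : j ^ k = -1) (hS : AddSubgroup.closure {t : K | ∃ s ∈ S, ∃ γ : Kˣ, t = s * (γ : K) ^ 3} = ⊤)
    (hS0 : ∀ s ∈ S, s ≠ 0) (hPS : ∀ s ∈ S, aeval (j : K) (PS s) = s) :
    ∃ D : Data 3 K G, D.y 0 1 1 = x ∧ (∀ t, c * D.y 0 1 t * c⁻¹ = D.y 1 2 t) ∧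
      (∀ i l : Fin 3, i ≠ l → ∀ t, ∃ (i' l' : Fin 3) (t' : K), i' ≠ l' ∧ c * D.y i l t * c⁻¹ = D.y i' l' t') ∧
      (∀ i l : Fin 3, i ≠ l → ∀ t, ∃ (i' l' : Fin 3) (t' : K), i' ≠ l' ∧ d * D.y i l t * d⁻¹ = D.y i' l' t') ∧
      (∀ i l : Fin 3, i ≠ l → ∀ t, ∃ (i' l' : Fin 3) (t' : K), i' ≠ l' ∧ w * D.y i l t * w⁻¹ = D.y i' l' t') ∧
      w = D.y 0 1 1 * D.y 1 0 (-1) * D.y 0 1 1 := by
  obtain ⟨X, hadd, hX1, hdX, hXP⟩ := SL2Pres.exists_root_hom (p := p) (u := (j : K)) hB hf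
    (gu := Polynomial.X) (aeval_X _) R.hc R.xp R.fx (by simp [word, List.range_succ, cj, coeff_X])
  have hX0 : X 0 = 1 := mul_eq_left.1 (by rw [hadd, add_zero] : X 0 * X 0 = X 0)
  have hXn : ∀ t, (X t)⁻¹ = X (-t) := fun t =>
    inv_eq_of_mul_eq_one_right (by rw [hadd, add_neg_cancel, hX0])
  have hXc : ∀ s t, Commute (X s) (X t) := fun s t => by
    show X s * X t = X t * X s
    rw [hadd, hadd, add_comm]
  -- the second and third torus elements
  set e := c * d * c⁻¹ with he_def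
  set e2 := c * e * c⁻¹ with he2_def
  have c2 : c * c = c⁻¹ := eq_inv_of_mul_eq_one_left R.c3
  have hce : c⁻¹ * e * c = d := by rw [he_def]; group
  have hcd : c⁻¹ * d * c = e2 := by
    rw [he2_def, he_def, show c * (c * d * c⁻¹) * c⁻¹ = (c * c) * d * (c * c)⁻¹ by group, c2, inv_inv]
  have hall : ∀ (P : K → Prop), P 0 → P 1 → (∀ t, P t → P ((j : K) * t)) → ∀ t, P t := by
    intro P h0 h1 hm t
    by_cases ht : t = 0
    · rw [ht]; exact h0
    obtain ⟨i, hi⟩ := mem_powers_iff_mem_zpowers.2 (hj (Units.mk0 t ht))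
    have hp' : ∀ i : ℕ, P ((j : K) ^ i) := by
      intro i
      induction i with
      | zero => simpa using h1
      | succ i ih => rw [pow_succ']; exact hm _ ih
    have := hp' i
    rwa [← Units.val_pow_eq_pow_val, show j ^ i = Units.mk0 t ht from hi, Units.val_mk0] at this
  have heX : ∀ t, e * X t * e⁻¹ = X ((j : K) * t) := by
    refine hall _ (by rw [hX0, mul_zero, hX0, mul_one, mul_inv_cancel]) ?_ fun t ht => ?_
    · rw [hX1, he_def, R.act, ← hdX, hX1]
    · rw [← hdX t, show e * (d * X t * d⁻¹) * e⁻¹ = (e * d) * X t * (e * d)⁻¹ by group, ← R.de.eq,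
        show d * e * X t * (d * e)⁻¹ = d * (e * X t * e⁻¹) * d⁻¹ by group, ht, hdX]
  have he2 : e2 = (d * e)⁻¹ := (inv_eq_of_mul_eq_one_right R.prod).symm
  have he2X : ∀ t, e2 * X t * e2⁻¹ = X (((j ^ (-2 : ℤ) : Kˣ) : K) * t) := by
    have hde : ∀ t, (d * e) * X t * (d * e)⁻¹ = X (((j ^ (2 : ℤ) : Kˣ) : K) * t) := fun t => by
      rw [show d * e * X t * (d * e)⁻¹ = d * (e * X t * e⁻¹) * d⁻¹ by group, heX, hdX]
      congr 1
      simp [zpow_two]
      ring
    intro t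
    have := conj_zpow_mult (u := j ^ (2 : ℤ)) hde (-1) t
    rw [_root_.zpow_neg_one, ← he2, ← _root_.zpow_mul] at this
    exact this
  -- the root elements
  let A : K → G := fun t => c * X t * c⁻¹
  let B : K → G := fun t => c * A t * c⁻¹
  let L : K → G := fun t => w * X (-t) * w⁻¹
  let M : K → G := fun t => c * L t * c⁻¹
  let Z : K → G := fun t => c * M t * c⁻¹
  have cB : ∀ t, c * B t * c⁻¹ = X t := fun t => by
    rw [show c * B t * c⁻¹ = c * c * c * X t * (c * c * c)⁻¹ by simp only [B, A]; group, R.c3,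
      inv_one, one_mul, mul_one]
  have cZ : ∀ t, c * Z t * c⁻¹ = L t := fun t => by
    rw [show c * Z t * c⁻¹ = c * c * c * L t * (c * c * c)⁻¹ by simp only [Z, M]; group, R.c3,
      inv_one, one_mul, mul_one]
  have cadd : ∀ (g : G) (U : K → G), (∀ s t, U s * U t = U (s + t)) → ∀ s t,
      g * U s * g⁻¹ * (g * U t * g⁻¹) = g * U (s + t) * g⁻¹ := fun g U hU s t => by
    rw [← hU]; group
  have Ladd : ∀ s t, L s * L t = L (s + t) := fun s t => by
    show w * X (-s) * w⁻¹ * (w * X (-t) * w⁻¹) = w * X (-(s + t)) * w⁻¹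
    rw [cadd w X hadd, neg_add]
  have Aadd : ∀ s t, A s * A t = A (s + t) := cadd c X hadd
  have Badd : ∀ s t, B s * B t = B (s + t) := cadd c A Aadd
  have Madd : ∀ s t, M s * M t = M (s + t) := cadd c L Ladd
  have Zadd : ∀ s t, Z s * Z t = Z (s + t) := cadd c M Madd
  have selfc : ∀ (U : K → G), (∀ s t, U s * U t = U (s + t)) → ∀ s t, Commute (U s) (U t) :=
    fun U hU s t => by
      show U s * U t = U t * U s
      rw [hU, hU, add_comm]
  have Zneg : ∀ t, (Z t)⁻¹ = Z (-t) := fun t => by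
    simp only [Z, M, L, _root_.mul_inv_rev, inv_inv, hXn, mul_assoc]
  -- `w` and the torus
  have hwd : w * d * w⁻¹ = e⁻¹ := R.wdw
  have dkX : ∀ t, d ^ k * X t * (d ^ k)⁻¹ = X (-t) := fun t => by
    have := conj_zpow_mult (u := j) hdX k t
    rw [zpow_natCast, zpow_natCast, hk] at this
    simpa using this
  have hwe : w * e * w⁻¹ = d⁻¹ := by
    have hcom : Commute (d ^ k) e⁻¹ := (R.de.pow_left k).inv_right
    calc w * e * w⁻¹ = (w * c * w⁻¹) * (w * d * w⁻¹) * (w * c * w⁻¹)⁻¹ := by rw [he_def]; group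
      _ = c * c * (d ^ k * e⁻¹ * (d ^ k)⁻¹) * (c * c)⁻¹ := by rw [R.wcw, hwd]; group
      _ = _ := by
        rw [hcom.eq, mul_inv_cancel_right, show c * c * e⁻¹ * (c * c)⁻¹ =
          c * c * c * d⁻¹ * (c * c * c)⁻¹ by rw [he_def]; group, R.c3, inv_one, one_mul, mul_one]
  have w2X : ∀ t, Commute (w * w) (X t) := by
    have h2d : Commute (w * w) d := by
      refine mul_inv_eq_iff_eq_mul.1 ?_
      rw [show w * w * d * (w * w)⁻¹ = w * (w * d * w⁻¹) * w⁻¹ by group, hwd,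
        show w * e⁻¹ * w⁻¹ = (w * e * w⁻¹)⁻¹ by group, hwe, inv_inv]
    refine hall _ (by rw [hX0]; exact Commute.one_right _) (by rw [hX1]; exact R.w2x) fun t ht => ?_
    rw [← hdX]
    exact (h2d.mul_right ht).mul_right h2d.inv_right
  have wX : ∀ t, w * X t * w⁻¹ = L (-t) := fun t => by
    show _ = w * X (- -t) * w⁻¹
    rw [neg_neg]
  have wL : ∀ t, w * L t * w⁻¹ = X (-t) := fun t => by
    rw [show w * L t * w⁻¹ = w * w * X (-t) * (w * w)⁻¹ by simp only [L]; group, (w2X (-t)).eq,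
      mul_inv_cancel_right]
  -- torus multipliers
  have hcu : ∀ (g g' : G) (U : K → G) (u : Kˣ), (∀ t, g' * U t * g'⁻¹ = U ((u : K) * t)) →
      c⁻¹ * g * c = g' → ∀ t, g * (c * U t * c⁻¹) * g⁻¹ = c * U ((u : K) * t) * c⁻¹ := by
    intro g g' U u hu e1 t
    rw [← hu t, ← e1]; group
  have dA : ∀ t, d * A t * d⁻¹ = A (((j ^ (-2 : ℤ) : Kˣ) : K) * t) := hcu d e2 X _ he2X hcd
  have eA : ∀ t, e * A t * e⁻¹ = A ((j : K) * t) := hcu e d X j hdX hce
  have dB : ∀ t, d * B t * d⁻¹ = B ((j : K) * t) := by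
    intro t
    have h2 : c⁻¹ * e2 * c = e := by rw [he2_def]; group
    have := hcu e2 e X j heX h2
    exact hcu d e2 A j this hcd t
  have dkB : ∀ t, d ^ k * B t * (d ^ k)⁻¹ = B (-t) := fun t => by
    have := conj_zpow_mult (u := j) (Y := B) dB k t
    rw [zpow_natCast, zpow_natCast, hk] at this
    simpa using this
  have dL : ∀ t, d * L t * d⁻¹ = L (((j ^ (-1 : ℤ) : Kˣ) : K) * t) := fun t => by
    have h1 : w⁻¹ * d * w = e⁻¹ := by rw [← inv_inv d, ← hwe]; group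
    have h2 := conj_zpow_mult (u := j) heX (-1) (-t)
    rw [_root_.zpow_neg_one e] at h2
    show d * (w * X (-t) * w⁻¹) * d⁻¹ = w * X (-(_ * t)) * w⁻¹
    rw [← mul_neg, ← h2, ← h1]; group
  have eL : ∀ t, e * L t * e⁻¹ = L (((j ^ (-1 : ℤ) : Kˣ) : K) * t) := fun t => by
    have h1 : w⁻¹ * e * w = d⁻¹ := by rw [← inv_inv e, ← hwd]; group
    have h2 := conj_zpow_mult (u := j) hdX (-1) (-t)
    rw [_root_.zpow_neg_one d] at h2
    show e * (w * X (-t) * w⁻¹) * e⁻¹ = w * X (-(_ * t)) * w⁻¹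
    rw [← mul_neg, ← h2, ← h1]; group
  have e2L : ∀ t, e2 * L t * e2⁻¹ = L (((j ^ (2 : ℤ) : Kˣ) : K) * t) := by
    have hde : ∀ t, (d * e) * L t * (d * e)⁻¹ = L (((j ^ (-2 : ℤ) : Kˣ) : K) * t) := fun t => by
      rw [show d * e * L t * (d * e)⁻¹ = d * (e * L t * e⁻¹) * d⁻¹ by group, eL, dL, ← mul_assoc,
        ← Units.val_mul, ← zpow_add]
      rfl
    intro t
    have := conj_zpow_mult (u := j ^ (-2 : ℤ)) hde (-1) t
    rw [_root_.zpow_neg_one, ← he2, ← _root_.zpow_mul] at this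
    exact this
  have dM : ∀ t, d * M t * d⁻¹ = M (((j ^ (2 : ℤ) : Kˣ) : K) * t) := hcu d e2 L _ e2L hcd
  have eM : ∀ t, e * M t * e⁻¹ = M (((j ^ (-1 : ℤ) : Kˣ) : K) * t) := hcu e d L _ dL hce
  have dZ : ∀ t, d * Z t * d⁻¹ = Z (((j ^ (-1 : ℤ) : Kˣ) : K) * t) := by
    intro t
    have h2 : c⁻¹ * e2 * c = e := by rw [he2_def]; group
    have := hcu e2 e L _ eL h2
    exact hcu d e2 M _ this hcd t
  have eZ : ∀ t, e * Z t * e⁻¹ = Z (((j ^ (2 : ℤ) : Kˣ) : K) * t) :=
    hcu e d M _ dM hce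
  -- elements of the torus with prescribed action
  have tor : ∀ α γ : Kˣ, ∃ g : G, (∀ t, g * X t * g⁻¹ = X ((α : K) * t)) ∧
      (∀ t, g * A t * g⁻¹ = A (((α * γ ^ 3 : Kˣ) : K) * t)) ∧
      ∀ t, g * Z t * g⁻¹ = Z (((α ^ 2 * γ ^ 3 : Kˣ) : K) * t) := by
    intro α γ
    obtain ⟨i, rfl⟩ := hj α
    obtain ⟨m, rfl⟩ := hj γ
    refine ⟨d ^ (-m) * e ^ (i + m), fun t => ?_, fun t => ?_, fun t => ?_⟩
    all_goals rw [show ∀ u : G, d ^ (-m) * e ^ (i + m) * u * (d ^ (-m) * e ^ (i + m))⁻¹ =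
      d ^ (-m) * (e ^ (i + m) * u * (e ^ (i + m))⁻¹) * (d ^ (-m))⁻¹ from fun u => by group]
    · rw [conj_zpow_mult heX, conj_zpow_mult hdX, ← mul_assoc, ← Units.val_mul, ← zpow_add]
      congr 4; ring
    · rw [conj_zpow_mult eA, conj_zpow_mult dA, ← mul_assoc, ← Units.val_mul, ← _root_.zpow_mul,
        ← zpow_add, ← zpow_natCast (j ^ m), ← _root_.zpow_mul, ← zpow_add]
      congr 4; push_cast; ring
    · rw [conj_zpow_mult eZ, conj_zpow_mult dZ, ← mul_assoc, ← Units.val_mul, ← _root_.zpow_mul,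
        ← _root_.zpow_mul, ← zpow_add, ← zpow_natCast (j ^ i), ← zpow_natCast (j ^ m),
        ← _root_.zpow_mul, ← _root_.zpow_mul, ← zpow_add]
      congr 4; push_cast; ring
  have spanAll : ∀ (P : K → Prop) (r : K), r ≠ 0 → P 0 → (∀ a b, P a → P b → P (a + b)) →
      (∀ a, P a → P (-a)) → (∀ s ∈ S, ∀ γ : Kˣ, P (r * (s * (γ : K) ^ 3))) → ∀ a, P a := by
    intro P r hr h0 hadd' hneg hgen a
    have key : ∀ b ∈ AddSubgroup.closure {t : K | ∃ s ∈ S, ∃ γ : Kˣ, t = s * (γ : K) ^ 3},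
        P (r * b) := by
      intro b hb
      induction hb using AddSubgroup.closure_induction with
      | mem b hb => obtain ⟨s, hs, γ, rfl⟩ := hb; exact hgen s hs γ
      | zero => rwa [mul_zero]
      | add b b' _ _ hb hb' => rw [mul_add]; exact hadd' _ _ hb hb'
      | neg b _ hb => rw [mul_neg]; exact hneg _ hb
    have := key (r⁻¹ * a) (by rw [hS]; trivial)
    rwa [← mul_assoc, mul_inv_cancel₀ hr, one_mul] at this
  have Z0 : Z 0 = 1 := by simp [Z, M, L, hX0]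
  have A0 : A 0 = 1 := by simp [A, hX0]
  have hword : ∀ s ∈ S, word x d 1 (PS s) = X s := fun s hs => by rw [← hXP, hPS s hs]
  have hZs : ∀ s ∈ S, Z s = c * (c * (w * (word x d 1 (PS s))⁻¹ * w⁻¹) * c⁻¹) * c⁻¹ := fun s hs => by
    rw [hword s hs, hXn]
  -- `X` commutes with `Z`
  have cXZ : ∀ a b, Commute (X a) (Z b) := by
    intro a
    by_cases ha : a = 0
    · intro b; rw [ha, hX0]; exact Commute.one_left _
    refine spanAll (fun b => Commute (X a) (Z b)) (a ^ 2) (pow_ne_zero 2 ha)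
      (by rw [Z0]; exact Commute.one_right _) (fun b b' h h' => by rw [← Zadd]; exact h.mul_right h')
      (fun b h => by rw [← Zneg]; exact h.inv_right) fun s hs γ => ?_
    obtain ⟨g, gX, -, gZ⟩ := tor (Units.mk0 a ha) γ
    have h := conj_comm' g (R.r5 s hs)
    rw [← hZs s hs, ← hX1, gX, gZ, Units.val_mk0, mul_one] at h
    simpa [mul_assoc, mul_left_comm, mul_comm] using h
  have bXA : ∀ a b, ⁅X a, A b⁆ = Z (a * b) := by
    intro a b
    by_cases hb : b = 0
    · rw [hb, A0, mul_zero, Z0, commutatorElement_one_right]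
    revert a
    have hadd' : ∀ a a', ⁅X a, A b⁆ = Z (a * b) → ⁅X a', A b⁆ = Z (a' * b) →
        ⁅X (a + a'), A b⁆ = Z ((a + a') * b) := by
      intro a a' h h'
      calc ⁅X (a + a'), A b⁆ = X a * ⁅X a', A b⁆ * (X a)⁻¹ * ⁅X a, A b⁆ := by
            rw [← hadd, commutatorElement_def, commutatorElement_def, commutatorElement_def]; group
        _ = _ := by rw [h, h', (cXZ a _).eq, mul_inv_cancel_right, Zadd, add_mul, add_comm]
    have hneg : ∀ a, ⁅X a, A b⁆ = Z (a * b) → ⁅X (-a), A b⁆ = Z (-a * b) := by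
      intro a h
      rw [← hXn, neg_mul, ← Zneg, ← h]
      calc ⁅(X a)⁻¹, A b⁆ = (X a)⁻¹ * ⁅X a, A b⁆⁻¹ * X a := by
            simp only [commutatorElement_def]; group
        _ = _ := by rw [h, ((cXZ a _).inv_left.inv_right).eq, inv_mul_cancel_right]
    refine spanAll _ b hb (by rw [hX0, zero_mul, Z0, commutatorElement_one_left]) hadd' hneg
      fun s hs γ => ?_
    obtain ⟨g, gX, gA, gZ⟩ := tor (Units.mk0 b hb * γ ^ 3) γ⁻¹
    have h := congrArg (fun u => g * u * g⁻¹) (R.r4 s hs)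
    try simp only at h
    rw [← hZs s hs, hword s hs, ← hX1, cj', gX, gA, gZ] at h
    have e1 : ((Units.mk0 b hb * γ ^ 3 : Kˣ) : K) * s = b * (s * (γ : K) ^ 3) := by simp; ring
    have e2 : ((Units.mk0 b hb * γ ^ 3 * γ⁻¹ ^ 3 : Kˣ) : K) * 1 = b := by
      rw [mul_assoc (Units.mk0 b hb), ← mul_pow, mul_inv_cancel, one_pow, mul_one, mul_one, Units.val_mk0]
    have e3 : (((Units.mk0 b hb * γ ^ 3) ^ 2 * γ⁻¹ ^ 3 : Kˣ) : K) * s = b * (s * (γ : K) ^ 3) * b := by
      have : (γ : K) ≠ 0 := γ.ne_zero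
      simp [Units.val_inv_eq_inv_val]
      field_simp
    rw [e1, e2, e3] at h
    exact h
  have cAZ : ∀ b z, Commute (A b) (Z z) := by
    intro b z
    have h2 : ⁅X 1, A (b + z)⁆ = ⁅X 1, A b⁆ * (A b * ⁅X 1, A z⁆ * (A b)⁻¹) := by
      rw [← Aadd, commutatorElement_def, commutatorElement_def, commutatorElement_def]; group
    rw [bXA, bXA, bXA, one_mul, one_mul, one_mul, ← Zadd] at h2
    exact mul_inv_eq_iff_eq_mul.1 (mul_left_cancel h2).symm
  have bAB : ∀ a b, ⁅A a, B b⁆ = L (a * b) := fun a b => by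
    rw [← cZ, ← bXA, cj']
  have bBX : ∀ a b, ⁅B a, X b⁆ = M (a * b) := fun a b => by
    rw [show M (a * b) = c * L (a * b) * c⁻¹ from rfl, ← bAB, cj', cB]
  -- the action of `w`
  have hk1 : (j ^ (-1 : ℤ)) ^ k = -1 := by rw [_root_.zpow_neg_one, inv_pow, hk]; simp
  have hk2 : (j ^ (-2 : ℤ)) ^ k = 1 := by rw [zpow_neg, inv_pow, zpow_two, mul_pow, hk]; simp
  have dkL : ∀ t, d ^ k * L t * (d ^ k)⁻¹ = L (-t) := fun t => by
    have := conj_zpow_mult (u := j ^ (-1 : ℤ)) (Y := L) dL k t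
    rw [zpow_natCast, zpow_natCast] at this
    try rw [hk1] at this
    try rw [hk2] at this
    simpa using this
  have wc : ∀ u, w * (c * u * c⁻¹) * w⁻¹ = (c * c * d ^ k) * (w * u * w⁻¹) * (c * c * d ^ k)⁻¹ :=
    fun u => by rw [← R.wcw]; group
  have wA : ∀ t, w * A t * w⁻¹ = Z t := fun t => by
    show w * (c * X t * c⁻¹) * w⁻¹ = _
    rw [wc, wX, show c * c * d ^ k * L (-t) * (c * c * d ^ k)⁻¹ =
      c * (c * (d ^ k * L (-t) * (d ^ k)⁻¹) * c⁻¹) * c⁻¹ by group, dkL, neg_neg]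
  have wM : ∀ t, w * M t * w⁻¹ = B t := fun t => by
    show w * (c * L t * c⁻¹) * w⁻¹ = _
    rw [wc, wL, show c * c * d ^ k * X (-t) * (c * c * d ^ k)⁻¹ =
      c * (c * (d ^ k * X (-t) * (d ^ k)⁻¹) * c⁻¹) * c⁻¹ by group, dkX, neg_neg]
  have wZ : ∀ t, w * Z t * w⁻¹ = A (-t) := fun t => by
    show w * (c * M t * c⁻¹) * w⁻¹ = _
    rw [wc, wM, show c * c * d ^ k * B t * (c * c * d ^ k)⁻¹ =
      c * (c * (d ^ k * B t * (d ^ k)⁻¹) * c⁻¹) * c⁻¹ by group, dkB, cB]
  have dkA : ∀ t, d ^ k * A t * (d ^ k)⁻¹ = A t := fun t => by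
    have := conj_zpow_mult (u := j ^ (-2 : ℤ)) (Y := A) dA k t
    rw [zpow_natCast, zpow_natCast] at this
    try rw [hk1] at this
    try rw [hk2] at this
    simpa using this
  have wB : ∀ t, w * B t * w⁻¹ = M (-t) := fun t => by
    show w * (c * A t * c⁻¹) * w⁻¹ = _
    rw [wc, wA, show c * c * d ^ k * Z t * (c * c * d ^ k)⁻¹ =
      c * (c * (d ^ k * Z t * (d ^ k)⁻¹) * c⁻¹) * c⁻¹ by group]
    have h1 : d ^ k * Z t * (d ^ k)⁻¹ = Z (-t) := by
      have := conj_zpow_mult (u := j ^ (-1 : ℤ)) (Y := Z) dZ k t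
      rw [zpow_natCast, zpow_natCast] at this
      try rw [hk1] at this
      try rw [hk2] at this
      simpa using this
    rw [h1, cZ]
  -- second family of brackets
  have bLZ : ∀ a b, ⁅L a, Z b⁆ = A (a * b) := fun a b => by
    have := congrArg (fun u => w * u * w⁻¹) (bXA (-a) b)
    try simp only at this
    rw [cj', wX, wA, wZ, neg_neg, neg_mul, neg_neg] at this
    exact this
  have bML : ∀ a b, ⁅M a, L b⁆ = B (a * b) := fun a b => by
    rw [show B (a * b) = c * A (a * b) * c⁻¹ from rfl, ← bLZ, cj', cZ]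
  have bZM : ∀ a b, ⁅Z a, M b⁆ = X (a * b) := fun a b => by
    rw [← cB, ← bML, cj']
  -- commuting pairs
  have cAL : ∀ a b, Commute (A a) (L b) := fun a b => by
    rw [← cZ]; exact conj_comm' c (cXZ a b)
  have cBL : ∀ a b, Commute (B a) (L b) := fun a b => by
    rw [← cZ]; exact conj_comm' c (cAZ a b)
  have cBM : ∀ a b, Commute (B a) (M b) := fun a b => conj_comm' c (cAL a b)
  have cXM : ∀ a b, Commute (X a) (M b) := fun a b => by
    rw [← cB]; exact conj_comm' c (cBL a b)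
  let Yf : Fin 3 → Fin 3 → K → G := fun i l =>
    ![![fun _ => 1, X, Z], ![L, fun _ => 1, A], ![B, M, fun _ => 1]] i l
  let D : Data 3 K G :=
    { y := Yf
      add := by
        intro i l h t u
        fin_cases i <;> fin_cases l <;> first
          | exact absurd rfl h
          | exact hadd t u
          | exact Aadd t u
          | exact Badd t u
          | exact Ladd t u
          | exact Madd t u
          | exact Zadd t u
      comm := by
        intro i l a b h1 h2 h3 h4 t u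
        fin_cases i <;> fin_cases l <;> (try exact absurd rfl h1) <;> fin_cases a <;> fin_cases b <;>
          (try exact absurd rfl h2) <;> (try exact absurd rfl h3) <;> (try exact absurd rfl h4) <;> first
          | exact hXc t u
          | exact selfc A Aadd t u
          | exact selfc B Badd t u
          | exact selfc L Ladd t u
          | exact selfc M Madd t u
          | exact selfc Z Zadd t u
          | exact cXZ t u
          | exact (cXZ u t).symm
          | exact cAZ t u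
          | exact (cAZ u t).symm
          | exact cAL t u
          | exact (cAL u t).symm
          | exact cBL t u
          | exact (cBL u t).symm
          | exact cBM t u
          | exact (cBM u t).symm
          | exact cXM t u
          | exact (cXM u t).symm
      brac := by
        intro i l m h1 h2 h3 t u
        fin_cases i <;> fin_cases l <;> fin_cases m <;> first
          | exact absurd rfl h1
          | exact absurd rfl h2
          | exact absurd rfl h3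
          | exact bXA t u
          | exact bAB t u
          | exact bBX t u
          | exact bLZ t u
          | exact bML t u
          | exact bZM t u }
  refine ⟨D, hX1, fun t => rfl, ?_, ?_, ?_, ?_⟩
  · intro i l h t
    fin_cases i <;> fin_cases l
    · exact absurd rfl h
    · exact ⟨1, 2, t, by decide, rfl⟩
    · exact ⟨1, 0, t, by decide, cZ t⟩
    · exact ⟨2, 1, t, by decide, rfl⟩
    · exact absurd rfl h
    · exact ⟨2, 0, t, by decide, rfl⟩
    · exact ⟨0, 1, t, by decide, cB t⟩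
    · exact ⟨0, 2, t, by decide, rfl⟩
    · exact absurd rfl h
  · intro i l h t
    fin_cases i <;> fin_cases l
    · exact absurd rfl h
    · exact ⟨0, 1, _, by decide, hdX t⟩
    · exact ⟨0, 2, _, by decide, dZ t⟩
    · exact ⟨1, 0, _, by decide, dL t⟩
    · exact absurd rfl h
    · exact ⟨1, 2, _, by decide, dA t⟩
    · exact ⟨2, 0, _, by decide, dB t⟩
    · exact ⟨2, 1, _, by decide, dM t⟩
    · exact absurd rfl h
  · intro i l h t
    fin_cases i <;> fin_cases l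
    · exact absurd rfl h
    · exact ⟨1, 0, _, by decide, wX t⟩
    · exact ⟨1, 2, _, by decide, wZ t⟩
    · exact ⟨0, 1, _, by decide, wL t⟩
    · exact absurd rfl h
    · exact ⟨0, 2, _, by decide, wA t⟩
    · exact ⟨2, 1, _, by decide, wB t⟩
    · exact ⟨2, 0, _, by decide, wM t⟩
    · exact absurd rfl h
  · show w = X 1 * (w * X (- -1) * w⁻¹) * X 1
    rw [neg_neg, hX1]
    exact R.braid

end Cfsg.Agent.SLPres.Short
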