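import Mathlib
import Cfsg.Agent.Lib.SLPres.ShortThree

/-!
`SL₃(q)` is presented by four generators and fourteen relations.
-/

set_option autoImplicit false
set_option linter.unusedSimpArgs false
set_option linter.style.haveILetI false

namespace Cfsg.Agent.SLPres.Short

open Polynomial
open SL2Pres (cj word map_cj map_word)
open scoped commutatorElement

variable {K : Type*} [Field K]

abbrev S3 (K : Type*) [Field K] : Type _ := Matrix.SpecialLinearGroup (Fin 3) K

/-- A root element. -/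
def E (i l : Fin 3) (t : K) : S3 K := (slData 3 K).y i l t

theorem E_val {i l : Fin 3} (h : i ≠ l) (t : K) :
    (E i l t).1 = 1 + Matrix.single i l t := by
  rw [E, slData_y h]; rfl

def x₀ : S3 K := E 0 1 1

def d₀ (j : Kˣ) : S3 K := ⟨Matrix.diagonal ![1, ((j : K))⁻¹, (j : K)], by
  rw [Matrix.det_diagonal, Fin.prod_univ_three]; simp⟩

def c₀ : S3 K := ⟨!![0, 0, 1; 1, 0, 0; 0, 1, 0], by simp [Matrix.det_fin_three]⟩

def w₀ : S3 K := ⟨!![0, 1, 0; -1, 0, 0; 0, 0, 1], by simp [Matrix.det_fin_three]⟩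

theorem v_mul (a b : S3 K) : (a * b).1 = a.1 * b.1 := rfl

theorem v_one : (1 : S3 K).1 = 1 := rfl

theorem cE01 (t : K) : c₀ * E 0 1 t * c₀⁻¹ = E 1 2 t := by
  rw [mul_inv_eq_iff_eq_mul]
  apply Subtype.ext
  rw [v_mul, v_mul, E_val (by decide), E_val (by decide)]
  ext a b
  fin_cases a <;> fin_cases b <;> simp [c₀, Matrix.mul_apply, Fin.sum_univ_three, Matrix.single_apply, Matrix.one_apply]

theorem cE12 (t : K) : c₀ * E 1 2 t * c₀⁻¹ = E 2 0 t := by
  rw [mul_inv_eq_iff_eq_mul]
  apply Subtype.ext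
  rw [v_mul, v_mul, E_val (by decide), E_val (by decide)]
  ext a b
  fin_cases a <;> fin_cases b <;> simp [c₀, Matrix.mul_apply, Fin.sum_univ_three, Matrix.single_apply, Matrix.one_apply]

theorem cE10 (t : K) : c₀ * E 1 0 t * c₀⁻¹ = E 2 1 t := by
  rw [mul_inv_eq_iff_eq_mul]
  apply Subtype.ext
  rw [v_mul, v_mul, E_val (by decide), E_val (by decide)]
  ext a b
  fin_cases a <;> fin_cases b <;> simp [c₀, Matrix.mul_apply, Fin.sum_univ_three, Matrix.single_apply, Matrix.one_apply]

theorem cE21 (t : K) : c₀ * E 2 1 t * c₀⁻¹ = E 0 2 t := by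
  rw [mul_inv_eq_iff_eq_mul]
  apply Subtype.ext
  rw [v_mul, v_mul, E_val (by decide), E_val (by decide)]
  ext a b
  fin_cases a <;> fin_cases b <;> simp [c₀, Matrix.mul_apply, Fin.sum_univ_three, Matrix.single_apply, Matrix.one_apply]

theorem wE01 (t : K) : w₀ * E 0 1 t * w₀⁻¹ = E 1 0 (-t) := by
  rw [mul_inv_eq_iff_eq_mul]
  apply Subtype.ext
  rw [v_mul, v_mul, E_val (by decide), E_val (by decide)]
  ext a b
  fin_cases a <;> fin_cases b <;> simp [w₀, Matrix.mul_apply, Fin.sum_univ_three, Matrix.single_apply, Matrix.one_apply]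

theorem diag3 (a b c : K) : Matrix.diagonal ![a, b, c] = !![a, 0, 0; 0, b, 0; 0, 0, c] := by
  ext i l
  fin_cases i <;> fin_cases l <;> rfl

theorem d_val (j : Kˣ) : (d₀ j).1 = Matrix.diagonal ![1, ((j : K))⁻¹, (j : K)] := rfl

theorem dE01 (j : Kˣ) (t : K) : d₀ j * E 0 1 t * (d₀ j)⁻¹ = E 0 1 ((j : K) * t) := by
  rw [mul_inv_eq_iff_eq_mul]
  apply Subtype.ext
  rw [v_mul, v_mul, E_val (by decide), E_val (by decide)]
  ext a b
  fin_cases a <;> fin_cases b <;>
    simp [d_val, Matrix.mul_apply, Fin.sum_univ_three, Matrix.single_apply, Matrix.one_apply, Matrix.diagonal] <;>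
    field_simp

theorem d_pow_val (j : Kˣ) (k : ℕ) :
    (d₀ j ^ k).1 = Matrix.diagonal ![1, ((j : K))⁻¹ ^ k, (j : K) ^ k] := by
  show (d₀ j).1 ^ k = _
  rw [d_val, Matrix.diagonal_pow]
  congr 1
  funext a
  fin_cases a <;> simp

def e₀ (j : Kˣ) : S3 K := ⟨Matrix.diagonal ![(j : K), 1, ((j : K))⁻¹], by
  rw [Matrix.det_diagonal, Fin.prod_univ_three]; simp⟩

theorem e_eq (j : Kˣ) : c₀ * d₀ j * c₀⁻¹ = e₀ j := by
  rw [mul_inv_eq_iff_eq_mul]
  apply Subtype.ext
  rw [v_mul, v_mul]
  ext a b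
  fin_cases a <;> fin_cases b <;>
    simp [c₀, e₀, d_val, Matrix.mul_apply, Fin.sum_univ_three, Matrix.diagonal]

theorem eE01 (j : Kˣ) (t : K) : e₀ j * E 0 1 t * (e₀ j)⁻¹ = E 0 1 ((j : K) * t) := by
  rw [mul_inv_eq_iff_eq_mul]
  apply Subtype.ext
  rw [v_mul, v_mul, E_val (by decide), E_val (by decide)]
  ext a b
  fin_cases a <;> fin_cases b <;>
    simp [e₀, Matrix.mul_apply, Fin.sum_univ_three, Matrix.single_apply, Matrix.one_apply, Matrix.diagonal] <;>
    field_simp

theorem E_add {i l : Fin 3} (h : i ≠ l) (t u : K) : E i l t * E i l u = E i l (t + u) :=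
  (slData 3 K).add h t u

theorem E_inv {i l : Fin 3} (h : i ≠ l) (t : K) : (E i l t)⁻¹ = E i l (-t) := (slData 3 K).y_neg h t

theorem E_zero {i l : Fin 3} (h : i ≠ l) : E i l (0 : K) = 1 := (slData 3 K).y_zero h

theorem E_zpow {i l : Fin 3} (h : i ≠ l) (t : K) (m : ℤ) : E i l t ^ m = E i l ((m : K) * t) := by
  induction m with
  | zero => simp [E_zero h]
  | succ m ih => rw [zpow_add_one, ih, E_add h]; congr 1; push_cast; ring
  | pred m ih => rw [zpow_sub_one, ih, E_inv h, E_add h]; congr 1; push_cast; ring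

theorem cj_x₀ (j : Kˣ) (i : ℤ) : cj (x₀ : S3 K) (d₀ j) i = E 0 1 (((j ^ i : Kˣ) : K)) := by
  rw [cj, x₀, conj_zpow_mult (Y := E 0 1) (dE01 j), mul_one]

theorem word_x₀ (j : Kˣ) (P : ℤ[X]) : word (x₀ : S3 K) (d₀ j) 1 P = E 0 1 (aeval (j : K) P) := by
  have key : ∀ n, ((List.range n).map fun i : ℕ => cj (x₀ : S3 K) (d₀ j) ((i : ℤ) * 1) ^ P.coeff i).prod =
      E 0 1 (∑ i ∈ Finset.range n, (P.coeff i : K) * (j : K) ^ i) := by
    intro n
    induction n with
    | zero => simp [E_zero]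
    | succ n ih =>
      rw [Finset.sum_range_succ, ← E_add (by decide), ← ih, List.range_succ, List.map_append,
        List.prod_append]
      congr 1
      simp only [List.map_cons, List.map_nil, List.prod_cons, List.prod_nil, mul_one]
      rw [cj_x₀, E_zpow (by decide), zpow_natCast, Units.val_pow_eq_pow_val]
  rw [word, key, aeval_eq_sum_range]
  simp [zsmul_eq_mul]

/-- The relators that do not depend on the field. -/
noncomputable def zz {G : Type*} [Group G] (x d c w : G) (P : ℤ[X]) : G :=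
  c * (c * (w * (word x d 1 P)⁻¹ * w⁻¹) * c⁻¹) * c⁻¹

theorem zz₀ (j : Kˣ) (P : ℤ[X]) :
    zz (x₀ : S3 K) (d₀ j) c₀ w₀ P = E 0 2 (aeval (j : K) P) := by
  rw [zz, word_x₀, E_inv (by decide), wE01, neg_neg, cE10, cE21]

theorem map_zz {G G' : Type*} [Group G] [Group G'] (φ : G →* G') (x d c w : G) (P : ℤ[X]) :
    φ (zz x d c w P) = zz (φ x) (φ d) (φ c) (φ w) P := by simp [zz, map_word]

theorem range_top (j : Kˣ) (hB : Algebra.adjoin ℤ {(j : K)} = (⊤ : Subalgebra ℤ K))
    (H : Subgroup (S3 K)) (hx : x₀ ∈ H) (hd : d₀ j ∈ H) (hc : c₀ ∈ H) (hw : w₀ ∈ H) : H = ⊤ := by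
  have h01 : ∀ t : K, E 0 1 t ∈ H := by
    intro t
    have ht : t ∈ Algebra.adjoin ℤ {(j : K)} := hB ▸ Algebra.mem_top
    rw [Algebra.adjoin_singleton_eq_range_aeval] at ht
    obtain ⟨P, rfl⟩ := ht
    rw [show (aeval (j : K)).toRingHom P = aeval (j : K) P from rfl, ← word_x₀]
    refine Subgroup.list_prod_mem _ fun a ha => ?_
    obtain ⟨i, -, rfl⟩ := List.mem_map.1 ha
    exact Subgroup.zpow_mem _ (mul_mem (mul_mem (Subgroup.zpow_mem _ hd _) hx)
      (inv_mem (Subgroup.zpow_mem _ hd _))) _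
  have cj1 : ∀ {g u v : S3 K}, g ∈ H → g * u * g⁻¹ = v → u ∈ H → v ∈ H := fun hg e hu =>
    e ▸ mul_mem (mul_mem hg hu) (inv_mem hg)
  have h12 : ∀ t : K, E 1 2 t ∈ H := fun t => cj1 hc (cE01 t) (h01 t)
  have h20 : ∀ t : K, E 2 0 t ∈ H := fun t => cj1 hc (cE12 t) (h12 t)
  have h10 : ∀ t : K, E 1 0 t ∈ H := fun t => cj1 hw (by rw [wE01, neg_neg]) (h01 (-t))
  have h21 : ∀ t : K, E 2 1 t ∈ H := fun t => cj1 hc (cE10 t) (h10 t)
  have h02 : ∀ t : K, E 0 2 t ∈ H := fun t => cj1 hc (cE21 t) (h21 t)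
  rw [eq_top_iff, ← ClassicalSL.closure_elemTransvections, Subgroup.closure_le]
  rintro _ ⟨a, b, h, t, rfl⟩
  rw [← slData_y h t]
  fin_cases a <;> fin_cases b <;> first
    | exact absurd rfl h
    | exact h01 t
    | exact h12 t
    | exact h20 t
    | exact h10 t
    | exact h21 t
    | exact h02 t

variable [Finite K] {p : ℕ} [Fact p.Prime] [CharP K p] {j : Kˣ} {k : ℕ} {f : ℤ[X]} {S : Set K}
  {PS : K → ℤ[X]}

theorem rel₀ (hk : j ^ k = -1) (hf0 : aeval (j : K) f = 0) :
    Rel p j f k S PS (x₀ : S3 K) (d₀ j) c₀ w₀ where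
  hc i := by
    rw [cj_x₀]
    exact (slData 3 K).comm (by decide) (by decide) (by decide) (by decide) _ _
  xp := by
    rw [x₀, ← zpow_natCast, E_zpow (by decide)]
    simp [E_zero]
  fx := by rw [word_x₀, hf0, E_zero (by decide)]
  de := by
    rw [e_eq]
    apply Subtype.ext
    rw [v_mul, v_mul]
    show Matrix.diagonal _ * Matrix.diagonal _ = Matrix.diagonal _ * Matrix.diagonal _
    rw [Matrix.diagonal_mul_diagonal, Matrix.diagonal_mul_diagonal]
    exact congrArg _ (funext fun a => mul_comm _ _)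
  prod := by
    rw [e_eq, mul_assoc, ← eq_inv_mul_iff_mul_eq, mul_one, ← mul_assoc (e₀ j),
      mul_inv_eq_iff_eq_mul, eq_inv_mul_iff_mul_eq]
    apply Subtype.ext
    simp only [v_mul]
    ext a b
    fin_cases a <;> fin_cases b <;>
      simp [c₀, e₀, d_val, diag3, Matrix.mul_apply, Fin.sum_univ_three]
  act := by rw [e_eq, x₀, eE01, dE01]
  c3 := by
    apply Subtype.ext
    rw [v_mul, v_mul, v_one]
    ext a b
    fin_cases a <;> fin_cases b <;> simp [c₀, Matrix.mul_apply, Fin.sum_univ_three]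
  wcw := by
    rw [mul_inv_eq_iff_eq_mul]
    apply Subtype.ext
    simp only [v_mul, d_pow_val]
    have h1 : (j : K) ^ k = -1 := by rw [← Units.val_pow_eq_pow_val, hk]; simp
    rw [inv_pow, h1]
    ext a b
    fin_cases a <;> fin_cases b <;>
      simp [c₀, w₀, diag3, Matrix.mul_apply, Fin.sum_univ_three]
  wdw := by
    rw [e_eq, mul_inv_eq_iff_eq_mul, eq_inv_mul_iff_mul_eq]
    apply Subtype.ext
    simp only [v_mul]
    ext a b
    fin_cases a <;> fin_cases b <;>
      simp [w₀, e₀, d_val, diag3, Matrix.mul_apply, Fin.sum_univ_three]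
  w2x := by
    show _ = _
    rw [x₀, ← mul_inv_eq_iff_eq_mul, show w₀ * w₀ * E 0 1 (1 : K) * (w₀ * w₀)⁻¹ =
      w₀ * (w₀ * E 0 1 1 * w₀⁻¹) * w₀⁻¹ by group, wE01, mul_inv_eq_iff_eq_mul]
    apply Subtype.ext
    rw [v_mul, v_mul, E_val (by decide), E_val (by decide)]
    ext a b
    fin_cases a <;> fin_cases b <;>
      simp [w₀, Matrix.mul_apply, Fin.sum_univ_three, Matrix.single_apply, Matrix.one_apply]
  braid := by
    rw [x₀, wE01]
    apply Subtype.ext
    rw [v_mul, v_mul, E_val (by decide), E_val (by decide)]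
    ext a b
    fin_cases a <;> fin_cases b <;>
      simp [w₀, Matrix.mul_apply, Fin.sum_univ_three, Matrix.single_apply, Matrix.one_apply]
  r4 s _ := by
    show ⁅word (x₀ : S3 K) (d₀ j) 1 (PS s), c₀ * x₀ * c₀⁻¹⁆ = zz x₀ (d₀ j) c₀ w₀ (PS s)
    rw [zz₀, word_x₀, x₀, cE01]
    have := (slData 3 K).brac (show (0 : Fin 3) ≠ 1 by decide) (show (1 : Fin 3) ≠ 2 by decide)
      (show (0 : Fin 3) ≠ 2 by decide) (aeval (j : K) (PS s)) 1
    rw [mul_one] at this
    exact this
  r5 s _ := by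
    show Commute x₀ (zz (x₀ : S3 K) (d₀ j) c₀ w₀ (PS s))
    rw [zz₀, x₀]
    exact (slData 3 K).comm (by decide) (by decide) (by decide) (by decide) _ _

/-- Four generators with relations implying `Rel` present `SL₃`. -/
theorem assemble (hj : ∀ t, t ∈ Subgroup.zpowers j)
    (hB : Algebra.adjoin ℤ {(j : K)} = (⊤ : Subalgebra ℤ K))
    (hf : ∀ P : ℤ[X], aeval (j : K) P = 0 → ∃ Q R : ℤ[X], P = f * Q + C (p : ℤ) * R)
    (hk : j ^ k = -1) (hS : AddSubgroup.closure {t : K | ∃ s ∈ S, ∃ γ : Kˣ, t = s * (γ : K) ^ 3} = ⊤)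
    (hS0 : ∀ s ∈ S, s ≠ 0) (hPS : ∀ s ∈ S, aeval (j : K) (PS s) = s)
    (L : List (FreeGroup (Fin 4))) (hL : L.length ≤ 14)
    (hT : ∀ r ∈ L, FreeGroup.lift ![(x₀ : S3 K), d₀ j, c₀, w₀] r = 1)
    (hG : ∀ (G : Type) [Group G] (v : Fin 4 → G), (∀ r ∈ L, FreeGroup.lift v r = 1) →
      Rel p j f k S PS (v 0) (v 1) (v 2) (v 3)) :
    ∃ rels : Finset (FreeGroup (Fin 4)), rels.card ≤ 14 ∧
      Nonempty (PresentedGroup (↑rels : Set (FreeGroup (Fin 4))) ≃* S3 K) := by
  classical
  refine ⟨L.toFinset, (List.toFinset_card_le L).trans hL, ?_⟩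
  set rels : Set (FreeGroup (Fin 4)) := ↑L.toFinset with hrels
  have hT' : ∀ r ∈ rels, FreeGroup.lift ![(x₀ : S3 K), d₀ j, c₀, w₀] r = 1 := fun r hr =>
    hT r (List.mem_toFinset.1 (Finset.mem_coe.1 hr))
  let π := PresentedGroup.toGroup hT'
  let v : Fin 4 → PresentedGroup rels := PresentedGroup.of
  have hv : ∀ r ∈ L, FreeGroup.lift v r = 1 := fun r hr => by
    have e : FreeGroup.lift v = PresentedGroup.mk rels := FreeGroup.ext_hom _ _ fun i => by
      rw [FreeGroup.lift_apply_of]; rfl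
    rw [e]
    exact PresentedGroup.one_of_mem (Finset.mem_coe.2 (List.mem_toFinset.2 hr))
  have R := hG _ v hv
  obtain ⟨D, hx, -, hDc, hDd, hDw, hbraid⟩ := exists_data R hj hB hf hk hS hS0 hPS
  obtain ⟨f₁, hf₁⟩ := exists_hom_of_data D
  obtain ⟨π₀, hπ₀⟩ := exists_toSL 3 K
  let eS := MulEquiv.ofBijective π₀ (toSL_bijective 1 le_rfl π₀ hπ₀)
  let ψ : S3 K →* PresentedGroup rels := f₁.comp eS.symm.toMonoidHom
  have hψ : ∀ (i l : Fin 3) (h : i ≠ l) (t : K),
      ψ (Matrix.SpecialLinearGroup.transvection h t) = D.y i l t := by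
    intro i l h t
    have : eS.symm (Matrix.SpecialLinearGroup.transvection h t) = PresentedGroup.of (⟨(i, l), h⟩, t) :=
      eS.symm_apply_eq.2 (hπ₀ ⟨(i, l), h⟩ t).symm
    show f₁ (eS.symm _) = _
    rw [this]
    exact hf₁ ⟨(i, l), h⟩ t
  set N := ψ.range with hN
  have hy : ∀ (i l : Fin 3), i ≠ l → ∀ t, D.y i l t ∈ N := fun i l h t => ⟨_, hψ i l h t⟩
  haveI : Finite N := Finite.of_surjective ψ.rangeRestrict ψ.rangeRestrict_surjective
  have hx1 : v 0 ∈ N := hx ▸ hy 0 1 (by decide) 1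
  have hw1 : v 3 ∈ N := by
    rw [hbraid]
    exact mul_mem (mul_mem (hy 0 1 (by decide) _) (hy 1 0 (by decide) _)) (hy 0 1 (by decide) _)
  have stab : ∀ g, (∀ i l : Fin 3, i ≠ l → ∀ t, ∃ (i' l' : Fin 3) (t' : K), i' ≠ l' ∧
      g * D.y i l t * g⁻¹ = D.y i' l' t') → g ∈ Subgroup.normalizer (N : Set (PresentedGroup rels)) := by
    intro g hg
    have hle : ∀ n ∈ N, g * n * g⁻¹ ∈ N := by
      rintro _ ⟨s, rfl⟩
      have : (⊤ : Subgroup (S3 K)) ≤ (N.comap (MulAut.conj g).toMonoidHom).comap ψ := by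
        rw [← ClassicalSL.closure_elemTransvections, Subgroup.closure_le]
        rintro _ ⟨i, l, h, t, rfl⟩
        show g * ψ _ * g⁻¹ ∈ N
        obtain ⟨i', l', t', h', e⟩ := hg i l h t
        rw [hψ i l h t, e]
        exact hy i' l' h' t'
      exact this (Subgroup.mem_top s)
    rw [Subgroup.mem_normalizer_iff]
    refine fun n => ⟨hle n, fun hn => ?_⟩
    let φ : N → N := fun m => ⟨g * m.1 * g⁻¹, hle m.1 m.2⟩
    have hinj : Function.Injective φ := fun a b hab => Subtype.ext
      (mul_left_cancel (mul_right_cancel (congrArg Subtype.val hab :)))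
    obtain ⟨m, hm⟩ := (Finite.injective_iff_surjective.1 hinj) ⟨_, hn⟩
    have := (congrArg Subtype.val hm :)
    change g * m.1 * g⁻¹ = g * n * g⁻¹ at this
    rw [← mul_left_cancel (mul_right_cancel this)]
    exact m.2
  haveI hNn : N.Normal := by
    rw [← Subgroup.normalizer_eq_top_iff, eq_top_iff, ← PresentedGroup.closure_range_of rels,
      Subgroup.closure_le]
    rintro _ ⟨i, rfl⟩
    fin_cases i
    · exact Subgroup.le_normalizer hx1
    · exact stab (v 1) hDd
    · exact stab (v 2) hDc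
    · exact stab (v 3) hDw
  have hsurj : Function.Surjective ψ := by
    rw [← MonoidHom.range_eq_top, eq_top_iff, ← PresentedGroup.closure_range_of rels, Subgroup.closure_le]
    let qm := QuotientGroup.mk' N
    have q3 : qm (v 3) = 1 := (QuotientGroup.eq_one_iff _).2 hw1
    have e1 := congrArg qm R.wdw
    have e2 := congrArg qm R.prod
    have e3 := congrArg qm R.wcw
    simp only [map_mul, map_inv, map_pow, map_one, q3, one_mul, inv_one, mul_one] at e1 e2 e3
    have hd1 : qm (v 2) * qm (v 1) * (qm (v 2))⁻¹ = 1 := by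
      rw [eq_inv_iff_mul_eq_one.1 e1, one_mul] at e2
      have h4 : qm (v 2) * (qm (v 2) * qm (v 1) * (qm (v 2))⁻¹) * (qm (v 2))⁻¹ = 1 := e2
      exact mul_eq_left.1 (mul_inv_eq_one.1 h4)
    have hd : qm (v 1) = 1 := by
      rw [e1, hd1, inv_one]
    rw [hd, one_pow, mul_one] at e3
    rintro _ ⟨i, rfl⟩
    fin_cases i
    · exact hx1
    · exact (QuotientGroup.eq_one_iff _).1 hd
    · exact (QuotientGroup.eq_one_iff _).1 (mul_eq_left.1 e3.symm)
    · exact hw1
  have hπs : Function.Surjective π := by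
    rw [← MonoidHom.range_eq_top]
    exact range_top j hB _ ⟨v 0, PresentedGroup.toGroup.of hT'⟩ ⟨v 1, PresentedGroup.toGroup.of hT'⟩
      ⟨v 2, PresentedGroup.toGroup.of hT'⟩ ⟨v 3, PresentedGroup.toGroup.of hT'⟩
  haveI : Finite (PresentedGroup rels) := Finite.of_surjective ψ hsurj
  exact ⟨MulEquiv.ofBijective π
    (hπs.bijective_of_nat_card_le (Nat.card_le_card_of_surjective ψ hsurj))⟩

omit [CharP K p] [Fact p.Prime] in
theorem cubes_span (hj : ∀ t, t ∈ Subgroup.zpowers j) (h4 : Nat.card K ≠ 4) :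
    AddSubgroup.closure {t : K | ∃ s ∈ ({1} : Set K), ∃ γ : Kˣ, t = s * (γ : K) ^ 3} = ⊤ := by
  classical
  haveI := Fintype.ofFinite K
  set T : Set K := {t : K | ∃ s ∈ ({1} : Set K), ∃ γ : Kˣ, t = s * (γ : K) ^ 3} with hTdef
  set A := AddSubgroup.closure T with hA
  have h1 : (1 : K) ∈ A := AddSubgroup.subset_closure ⟨1, rfl, 1, by simp⟩
  have hmulT : ∀ a ∈ T, ∀ b ∈ A, a * b ∈ A := by
    rintro _ ⟨s, hs, γ, rfl⟩ b hb
    obtain rfl : s = 1 := hs
    induction hb using AddSubgroup.closure_induction with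
    | mem b hb =>
      obtain ⟨s', hs', δ, rfl⟩ := hb
      obtain rfl : s' = 1 := hs'
      exact AddSubgroup.subset_closure ⟨1, rfl, γ * δ, by simp [mul_pow]⟩
    | zero => rw [mul_zero]; exact zero_mem A
    | add b b' _ _ hb hb' => rw [mul_add]; exact add_mem hb hb'
    | neg b _ hb => rw [mul_neg]; exact neg_mem hb
  have hmul : ∀ a ∈ A, ∀ b ∈ A, a * b ∈ A := by
    intro a ha b hb
    induction ha using AddSubgroup.closure_induction with
    | mem a ha => exact hmulT a ha b hb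
    | zero => rw [zero_mul]; exact zero_mem A
    | add a a' _ _ ha ha' => rw [add_mul]; exact add_mem ha ha'
    | neg a _ ha => rw [neg_mul]; exact neg_mem ha
  have hpow : ∀ a ∈ A, ∀ m : ℕ, a ^ m ∈ A := fun a ha m => by
    induction m with
    | zero => simpa using h1
    | succ m ih => rw [pow_succ]; exact hmul _ ih _ ha
  let F₀ : Subfield K :=
    { carrier := A
      mul_mem' := fun {a b} ha hb => hmul a ha b hb
      one_mem' := h1
      add_mem' := fun {a b} ha hb => add_mem ha hb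
      zero_mem' := zero_mem A
      neg_mem' := fun {a} ha => neg_mem ha
      inv_mem' := fun a ha => by
        rcases eq_or_ne a 0 with rfl | h0
        · rw [inv_zero]; exact zero_mem A
        · have hq : 2 ≤ Fintype.card K := Fintype.one_lt_card
          rw [inv_eq_of_mul_eq_one_left (show a ^ (Fintype.card K - 2) * a = 1 by
            rw [← pow_succ, show Fintype.card K - 2 + 1 = Fintype.card K - 1 by omega,
              FiniteField.pow_card_sub_one_eq_one a h0])]
          exact hpow a ha _ }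
  haveI : Finite F₀ := inferInstance
  haveI := Fintype.ofFinite F₀
  have hcard : Nat.card K = Nat.card F₀ ^ Module.finrank F₀ K := Module.natCard_eq_pow_finrank
  by_contra hne
  have hfin : 2 ≤ Module.finrank F₀ K := by
    by_contra hlt
    have hpos : 0 < Module.finrank F₀ K := Module.finrank_pos
    have : Nat.card F₀ = Nat.card K := by
      rw [hcard, show Module.finrank F₀ K = 1 by omega, pow_one]
    have huniv : (A : Set K) = Set.univ := by
      refine Set.eq_of_subset_of_ncard_le (Set.subset_univ _) ?_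
      rw [Set.ncard_univ, ← Nat.card_coe_set_eq]
      exact this.ge
    exact hne (eq_top_iff.2 fun x _ => (huniv ▸ Set.mem_univ x : x ∈ (A : Set K)))
  have hk2 : 2 ≤ Nat.card F₀ := Finite.one_lt_card
  have hsq : Nat.card F₀ ^ 2 ≤ Nat.card K := hcard ▸ Nat.pow_le_pow_right (by omega) hfin
  have hmem : (j : K) ^ 3 ∈ F₀ := AddSubgroup.subset_closure ⟨1, rfl, j, (one_mul _).symm⟩
  have h3 : j ^ (3 * (Nat.card F₀ - 1)) = 1 := by
    refine Units.ext ?_
    have hne0 : (⟨(j : K) ^ 3, hmem⟩ : F₀) ≠ 0 := fun e =>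
      pow_ne_zero 3 (Units.ne_zero j) (congrArg Subtype.val e)
    have := congrArg Subtype.val (FiniteField.pow_card_sub_one_eq_one (⟨(j : K) ^ 3, hmem⟩ : F₀) hne0)
    rw [Nat.card_eq_fintype_card, Units.val_pow_eq_pow_val, pow_mul]
    simpa using this
  have hord : orderOf j = Nat.card K - 1 := by
    rw [orderOf_eq_card_of_forall_mem_zpowers hj, Nat.card_units]
  have hdvd := Nat.le_of_dvd (by omega) (hord ▸ orderOf_dvd_of_pow_eq_one h3)
  have hk : Nat.card F₀ = 2 := by
    by_contra hk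
    have : 3 * Nat.card F₀ ≤ Nat.card F₀ ^ 2 := by rw [pow_two]; exact Nat.mul_le_mul_right _ (by omega)
    omega
  rw [hk] at hdvd hsq hcard h3
  have : Nat.card K = 4 := by omega
  exact h4 this

set_option maxHeartbeats 1600000 in
/-- `SL₃(q)` has a presentation with four generators and at most fourteen relations. -/
theorem main {K : Type*} [Field K] [Finite K] :
    ∃ rels : Finset (FreeGroup (Fin 4)), rels.card ≤ 14 ∧
      Nonempty (PresentedGroup (↑rels : Set (FreeGroup (Fin 4))) ≃* S3 K) := by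
  classical
  obtain ⟨p, _⟩ := CharP.exists K
  haveI : Fact p.Prime := ⟨CharP.char_is_prime K p⟩
  obtain ⟨j, hj⟩ := IsCyclic.exists_generator (α := Kˣ)
  have hB : Algebra.adjoin ℤ {(j : K)} = (⊤ : Subalgebra ℤ K) := by
    rw [eq_top_iff]
    intro t _
    by_cases ht : t = 0
    · rw [ht]; exact zero_mem _
    obtain ⟨i, hi⟩ := mem_powers_iff_mem_zpowers.2 (hj (Units.mk0 t ht))
    have : (j : K) ^ i = t := by
      rw [← Units.val_pow_eq_pow_val, show j ^ i = Units.mk0 t ht from hi]; rfl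
    rw [← this]
    exact pow_mem (Algebra.subset_adjoin (Set.mem_singleton (j : K))) i
  obtain ⟨k, hk⟩ := mem_powers_iff_mem_zpowers.2 (hj (-1))
  change j ^ k = -1 at hk
  haveI := Fintype.ofFinite K
  obtain ⟨f, hf0, hf⟩ := SL2Pres.exists_minimal_lift p (j : K)
  let x : FreeGroup (Fin 4) := FreeGroup.of 0
  let d : FreeGroup (Fin 4) := FreeGroup.of 1
  let c : FreeGroup (Fin 4) := FreeGroup.of 2
  let w : FreeGroup (Fin 4) := FreeGroup.of 3
  let e : FreeGroup (Fin 4) := c * d * c⁻¹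
  let one' : K → ℤ[X] := fun _ => C 1
  let prodR := d * e * (c * e * c⁻¹)
  let common : List (FreeGroup (Fin 4)) := [x ^ p, d * e * (e * d)⁻¹,
    e * x * e⁻¹ * (d * x * d⁻¹)⁻¹, c * c * c, w * c * w⁻¹ * (c * c * d ^ k)⁻¹, w * d * w⁻¹ * e,
    w * w * x * (x * (w * w))⁻¹, w * (x * (w * x * w⁻¹) * x)⁻¹,
    ⁅word x d 1 (C 1), c * x * c⁻¹⁆ * (zz x d c w (C 1))⁻¹,
    x * zz x d c w (C 1) * (zz x d c w (C 1) * x)⁻¹]
  have R₀ : ∀ (S : Set K) (PS : K → ℤ[X]), Rel p j f k S PS (x₀ : S3 K) (d₀ j) c₀ w₀ := fun S PS =>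
    rel₀ hk hf0
  have commonT : ∀ r ∈ common, FreeGroup.lift ![(x₀ : S3 K), d₀ j, c₀, w₀] r = 1 := by
    have R := R₀ {1} one'
    intro r hr
    simp only [common, List.mem_cons, List.not_mem_nil, or_false] at hr
    rcases hr with rfl | rfl | rfl | rfl | rfl | rfl | rfl | rfl | rfl | rfl <;>
      simp only [map_mul, map_inv, map_pow, map_word, map_commutatorElement, map_zz, x, d, c, w, e,
        FreeGroup.lift_apply_of, mul_inv_eq_one] <;>
      simp only [Matrix.cons_val]
    · exact R.xp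
    · exact R.de.eq
    · exact R.act
    · exact R.c3
    · exact R.wcw
    · rw [R.wdw, inv_mul_cancel]
    · exact R.w2x.eq
    · exact R.braid
    · exact R.r4 1 rfl
    · exact (R.r5 1 rfl).eq
  have commonG : ∀ (G : Type) [Group G] (v : Fin 4 → G), (∀ r ∈ common, FreeGroup.lift v r = 1) →
      v 0 ^ p = 1 ∧ Commute (v 1) (v 2 * v 1 * (v 2)⁻¹) ∧
      v 2 * v 1 * (v 2)⁻¹ * v 0 * (v 2 * v 1 * (v 2)⁻¹)⁻¹ = v 1 * v 0 * (v 1)⁻¹ ∧
      v 2 * v 2 * v 2 = 1 ∧ v 3 * v 2 * (v 3)⁻¹ = v 2 * v 2 * v 1 ^ k ∧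
      v 3 * v 1 * (v 3)⁻¹ = (v 2 * v 1 * (v 2)⁻¹)⁻¹ ∧ Commute (v 3 * v 3) (v 0) ∧
      v 3 = v 0 * (v 3 * v 0 * (v 3)⁻¹) * v 0 ∧
      ⁅word (v 0) (v 1) 1 (C 1), v 2 * v 0 * (v 2)⁻¹⁆ = zz (v 0) (v 1) (v 2) (v 3) (C 1) ∧
      Commute (v 0) (zz (v 0) (v 1) (v 2) (v 3) (C 1)) := by
    intro G _ v hv
    simp only [common, List.mem_cons, List.not_mem_nil, or_false, forall_eq_or_imp, forall_eq] at hv
    simp only [map_mul, map_inv, map_pow, map_word, map_commutatorElement, map_zz, x, d, c, w, e,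
      FreeGroup.lift_apply_of, mul_inv_eq_one] at hv
    obtain ⟨h1, h2, h3, h4, h5, h6, h7, h8, h9, h10⟩ := hv
    exact ⟨h1, h2, h3, h4, h5, eq_inv_of_mul_eq_one_left h6, h7, h8, h9, h10⟩
  have hord : orderOf j = Nat.card K - 1 := by
    rw [orderOf_eq_card_of_forall_mem_zpowers hj, Nat.card_units]
  by_cases h4 : Nat.card K = 4
  · -- the field of four elements
    have hp2 : p = 2 := by
      haveI := Fintype.ofFinite K
      obtain ⟨m, hm, hm'⟩ := FiniteField.card K p
      rw [← Nat.card_eq_fintype_card, h4] at hm'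
      have : p ∣ 2 ^ 2 := by
        rw [show 2 ^ 2 = 4 by norm_num, hm']; exact dvd_pow_self p m.ne_zero
      exact (Nat.prime_dvd_prime_iff_eq hm Nat.prime_two).1 (hm.dvd_of_dvd_pow this)
    have hj2 : (j : K) ^ 2 = 1 + (j : K) := by
      have h3 : (j : K) ^ 3 = 1 := by
        rw [← Units.val_pow_eq_pow_val, show 3 = orderOf j by rw [hord, h4], pow_orderOf_eq_one,
          Units.val_one]
      have hne : (j : K) - 1 ≠ 0 := by
        intro e
        have : j = 1 := Units.ext (sub_eq_zero.1 e)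
        rw [this, orderOf_one, h4] at hord
        omega
      have hz : ((j : K) - 1) * ((j : K) ^ 2 + (j : K) + 1) = 0 := by linear_combination h3
      have h2 : (2 : K) = 0 := by
        have := CharP.cast_eq_zero K p
        rw [hp2] at this
        simpa using this
      have := (mul_eq_zero.1 hz).resolve_left hne
      linear_combination this - ((j : K) + 1) * h2
    let PS : K → ℤ[X] := fun s => if s = 1 then C 1 else Polynomial.X
    have hj1 : (j : K) ≠ 1 := fun e => by
      have : j = 1 := Units.ext e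
      rw [this, orderOf_one, h4] at hord
      omega
    let extra : List (FreeGroup (Fin 4)) := [cj x d 2 * (x * cj x d 1)⁻¹, prodR * word x d 1 f,
      ⁅word x d 1 Polynomial.X, c * x * c⁻¹⁆ * (zz x d c w Polynomial.X)⁻¹,
      x * zz x d c w Polynomial.X * (zz x d c w Polynomial.X * x)⁻¹]
    refine assemble (p := p) (S := {1, (j : K)}) (PS := PS) (k := k) hj hB hf hk ?_ ?_ ?_
      (common ++ extra) (by simp [common, extra]) ?_ ?_
    · rw [eq_top_iff]
      intro t _
      by_cases ht : t = 0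
      · rw [ht]; exact zero_mem _
      have m1 : (1 : K) ∈ {t : K | ∃ s ∈ ({1, (j : K)} : Set K), ∃ γ : Kˣ, t = s * (γ : K) ^ 3} :=
        ⟨1, Or.inl rfl, 1, by simp⟩
      have mj : (j : K) ∈ {t : K | ∃ s ∈ ({1, (j : K)} : Set K), ∃ γ : Kˣ, t = s * (γ : K) ^ 3} :=
        ⟨j, Or.inr rfl, 1, by simp⟩
      obtain ⟨i, hi⟩ := mem_powers_iff_mem_zpowers.2 (hj (Units.mk0 t ht))
      change j ^ i = _ at hi
      rw [← pow_mod_orderOf, hord, h4] at hi
      have hi' : t = (j : K) ^ (i % (4 - 1)) := by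
        rw [← Units.val_pow_eq_pow_val, hi, Units.val_mk0]
      have hlt : i % (4 - 1) < 3 := Nat.mod_lt _ (by norm_num)
      rw [hi']
      interval_cases i % (4 - 1)
      · simpa using AddSubgroup.subset_closure m1
      · simpa using AddSubgroup.subset_closure mj
      · rw [hj2]; exact add_mem (AddSubgroup.subset_closure m1) (AddSubgroup.subset_closure mj)
    · rintro s (rfl | rfl)
      · exact one_ne_zero
      · exact Units.ne_zero j
    · rintro s (rfl | rfl) <;> simp [PS, hj1]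
    · intro r hr
      rcases List.mem_append.1 hr with hr | hr
      · exact commonT r hr
      have R := R₀ {1, (j : K)} PS
      simp only [extra, List.mem_cons, List.not_mem_nil, or_false] at hr
      rcases hr with rfl | rfl | rfl | rfl <;>
        simp only [map_mul, map_inv, map_pow, map_cj, map_word, map_commutatorElement, map_zz, x, d, c, w,
          e, prodR, FreeGroup.lift_apply_of, mul_inv_eq_one] <;>
        simp only [Matrix.cons_val]
      · rw [x₀, ← x₀, cj_x₀, cj_x₀, x₀, E_add (by decide)]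
        simp [hj2]
      · rw [R.prod, one_mul]; exact R.fx
      · have := R.r4 j (Or.inr rfl)
        simp only [PS, if_neg hj1] at this
        exact this
      · have := R.r5 j (Or.inr rfl)
        simp only [PS, if_neg hj1] at this
        exact this.eq
    · intro G _ v hv
      obtain ⟨g1, g2, g3, g4, g5, g6, g7, g8, g9, g10⟩ :=
        commonG G v fun r hr => hv r (List.mem_append_left _ hr)
      have hv' := fun r hr => hv r (List.mem_append_right common hr)
      simp only [extra, List.mem_cons, List.not_mem_nil, or_false, forall_eq_or_imp, forall_eq] at hv'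
      simp only [map_mul, map_inv, map_pow, map_cj, map_word, map_commutatorElement, map_zz, x, d, c, w, e,
        prodR, FreeGroup.lift_apply_of, mul_inv_eq_one] at hv'
      obtain ⟨hr2, hm, hr4, hr5⟩ := hv'
      have h0 : v 0 * v 0 = 1 := by rw [← pow_two]; rw [hp2] at g1; exact g1
      have hsq : ∀ i, cj (v 0) (v 1) i * cj (v 0) (v 1) i = 1 := fun i => by
        simp only [cj]
        rw [show v 1 ^ i * v 0 * (v 1 ^ i)⁻¹ * (v 1 ^ i * v 0 * (v 1 ^ i)⁻¹) =
          v 1 ^ i * (v 0 * v 0) * (v 1 ^ i)⁻¹ by group, h0, mul_one, mul_inv_cancel]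
      have hc1 : Commute (v 0) (cj (v 0) (v 1) 1) := by
        have := hsq 2
        rw [hr2, mul_eq_one_iff_eq_inv, _root_.mul_inv_rev, inv_eq_of_mul_eq_one_right h0,
          inv_eq_of_mul_eq_one_right (hsq 1)] at this
        exact this
      have hc : ∀ i : ℤ, Commute (v 0) (cj (v 0) (v 1) (i * 1)) :=
        SL2Pres.commute_all_of_trinomial hc1 hr2
      have hPd : Commute (v 1) (v 1 * (v 2 * v 1 * (v 2)⁻¹) *
          (v 2 * (v 2 * v 1 * (v 2)⁻¹) * (v 2)⁻¹)) := by
        have e1 := conj_comm' (v 2) (conj_comm' (v 2) g2)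
        rw [show v 2 * (v 2 * (v 2 * v 1 * (v 2)⁻¹) * (v 2)⁻¹) * (v 2)⁻¹ =
          v 2 * v 2 * v 2 * v 1 * (v 2 * v 2 * v 2)⁻¹ by group, g4, inv_one, one_mul, mul_one] at e1
        exact ((Commute.refl _).mul_right g2).mul_right e1.symm
      have hfx : word (v 0) (v 1) 1 f = 1 := by
        refine SL2Pres.eq_one_of_commute (v 0) (v 1) 1 hc hr2 (SL2Pres.word_mem_span _ _ _ f) ?_
        rw [eq_inv_of_mul_eq_one_right hm]
        exact hPd.inv_right
      rw [hfx, mul_one] at hm
      refine ⟨hc, g1, hfx, g2, hm, g3, g4, g5, g6, g7, g8, ?_, ?_⟩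
      · rintro s (rfl | rfl)
        · simpa [PS, zz] using g9
        · simpa [PS, zz, hj1] using hr4
      · rintro s (rfl | rfl)
        · simpa [PS, zz] using g10
        · have hr5' : Commute (v 0) (zz (v 0) (v 1) (v 2) (v 3) Polynomial.X) := hr5
          simpa [PS, zz, hj1] using hr5'
  · -- all other fields
    obtain ⟨r2, hr2T, hr2G⟩ : ∃ r2 : FreeGroup (Fin 4),
        FreeGroup.lift ![(x₀ : S3 K), d₀ j, c₀, w₀] r2 = 1 ∧
        ∀ (G : Type) [Group G] (v : Fin 4 → G), FreeGroup.lift v r2 = 1 →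
          Commute (v 0) (cj (v 0) (v 1) 1) → ∀ i : ℤ, Commute (v 0) (cj (v 0) (v 1) (i * 1)) := by
      by_cases hj0 : (1 : K) + (j : K) = 0
      · refine ⟨cj x d 1 * x, ?_, fun G _ v hv hc1 i => ?_⟩
        · simp only [map_mul, map_cj, x, d, FreeGroup.lift_apply_of]
          simp only [Matrix.cons_val]
          rw [cj_x₀, x₀, E_add (by decide), zpow_one, add_comm, hj0, E_zero (by decide)]
        · simp only [map_mul, map_cj, x, d, FreeGroup.lift_apply_of] at hv
          rw [mul_one]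
          have hstep : ∀ i : ℤ, cj (v 0) (v 1) (i + 1) = (cj (v 0) (v 1) i)⁻¹ := fun i => by
            rw [← SL2Pres.cj_shift, eq_inv_of_mul_eq_one_left hv]
            simp [cj, mul_assoc]
          induction i with
          | zero => rw [SL2Pres.cj_zero]
          | succ i ih => rw [hstep]; exact ih.inv_right
          | pred i ih =>
            have := hstep (-(i : ℤ) - 1)
            rw [sub_add_cancel] at this
            rw [← inv_inv (cj (v 0) (v 1) (-(i : ℤ) - 1)), ← this]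
            exact ih.inv_right
      · obtain ⟨α, hα⟩ := hj (Units.mk0 _ hj0)
        refine ⟨cj x d α * (x * cj x d 1)⁻¹, ?_, fun G _ v hv hc1 i => ?_⟩
        · simp only [map_mul, map_inv, map_cj, x, d, FreeGroup.lift_apply_of, mul_inv_eq_one]
          simp only [Matrix.cons_val]
          rw [cj_x₀, cj_x₀, x₀, E_add (by decide), zpow_one]
          change j ^ α = _ at hα
          rw [hα, Units.val_mk0]
        · simp only [map_mul, map_inv, map_cj, x, d, FreeGroup.lift_apply_of, mul_inv_eq_one] at hv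
          exact SL2Pres.commute_all_of_trinomial hc1 hv i
    let extra : List (FreeGroup (Fin 4)) :=
      [x * cj x d 1 * (cj x d 1 * x)⁻¹, r2, word x d 1 f, prodR]
    refine assemble (p := p) (S := {1}) (PS := one') (k := k) hj hB hf hk (cubes_span hj h4)
      (by simp) (by simp [one']) (common ++ extra) (by simp [common, extra]) ?_ ?_
    · intro r hr
      rcases List.mem_append.1 hr with hr | hr
      · exact commonT r hr
      have R := R₀ {1} one'
      simp only [extra, List.mem_cons, List.not_mem_nil, or_false] at hr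
      rcases hr with rfl | rfl | rfl | rfl
      rotate_left
      · exact hr2T
      all_goals
        simp only [map_mul, map_inv, map_pow, map_cj, map_word, x, d, c, w, e, prodR,
          FreeGroup.lift_apply_of, mul_inv_eq_one]
        simp only [Matrix.cons_val]
      · exact R.fx
      · exact R.prod
      · simpa using (R.hc 1).eq
    · intro G _ v hv
      obtain ⟨g1, g2, g3, g4, g5, g6, g7, g8, g9, g10⟩ :=
        commonG G v fun r hr => hv r (List.mem_append_left _ hr)
      have hv' := fun r hr => hv r (List.mem_append_right common hr)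
      simp only [extra, List.mem_cons, List.not_mem_nil, or_false, forall_eq_or_imp, forall_eq] at hv'
      simp only [map_mul, map_inv, map_pow, map_cj, map_word, x, d, c, w, e, prodR,
        FreeGroup.lift_apply_of, mul_inv_eq_one] at hv'
      obtain ⟨hc1, hv2, hfx, hp⟩ := hv'
      exact ⟨hr2G G v hv2 hc1, g1, hfx, g2, hp, g3, g4, g5, g6, g7, g8,
        fun s _ => g9, fun s _ => g10⟩

end Cfsg.Agent.SLPres.Short
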