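import Cfsg.Agent.Lib.SL2Pres.Universal

/-!
Elements satisfying the Steinberg relations of type `A`, and the rank one subgroups they generate.
-/

set_option autoImplicit false
set_option linter.style.haveILetI false

namespace Cfsg.Agent.SLPres

open scoped commutatorElement

variable (n : ℕ) (K : Type*) [Field K] (G : Type*) [Group G]

/-- Root elements satisfying the Steinberg relations of `SLₙ`. -/
structure Data where
  y : Fin n → Fin n → K → G
  add : ∀ ⦃i j⦄, i ≠ j → ∀ t u, y i j t * y i j u = y i j (t + u)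
  comm : ∀ ⦃i j k l⦄, i ≠ j → k ≠ l → i ≠ l → j ≠ k → ∀ t u, Commute (y i j t) (y k l u)
  brac : ∀ ⦃i j l⦄, i ≠ j → j ≠ l → i ≠ l → ∀ t u, ⁅y i j t, y j l u⁆ = y i l (t * u)

namespace Data

variable {n K G} (D : Data n K G)

theorem y_zero {i j : Fin n} (h : i ≠ j) : D.y i j 0 = 1 :=
  mul_eq_left.1 (by rw [D.add h, add_zero] : D.y i j 0 * D.y i j 0 = D.y i j 0)

theorem y_neg {i j : Fin n} (h : i ≠ j) (t : K) : (D.y i j t)⁻¹ = D.y i j (-t) :=
  inv_eq_of_mul_eq_one_right (by rw [D.add h, add_neg_cancel, D.y_zero h])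

theorem conj_left {a b c : Fin n} (hab : a ≠ b) (hbc : b ≠ c) (hac : a ≠ c) (t u : K) :
    D.y a b t * D.y b c u * (D.y a b t)⁻¹ = D.y a c (t * u) * D.y b c u := by
  rw [← D.brac hab hbc hac, commutatorElement_def]
  group

theorem conj_right {a b c : Fin n} (hab : a ≠ b) (hbc : b ≠ c) (hac : a ≠ c) (t u : K) :
    D.y b c t * D.y a b u * (D.y b c t)⁻¹ = D.y a c (-(t * u)) * D.y a b u := by
  rw [show -(t * u) = -(u * t) by ring, ← D.y_neg hac, ← D.brac hab hbc hac, commutatorElement_inv,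
    commutatorElement_def]
  group

theorem conj_comm {i j k l : Fin n} (hij : i ≠ j) (hkl : k ≠ l) (hil : i ≠ l) (hjk : j ≠ k)
    (t u : K) : D.y i j t * D.y k l u * (D.y i j t)⁻¹ = D.y k l u := by
  rw [(D.comm hij hkl hil hjk t u).eq, mul_inv_cancel_right]

/-- The monomial element of a root pair. -/
def w (i j : Fin n) (t : K) : G := D.y i j t * D.y j i (-t⁻¹) * D.y i j t

theorem w_inv {i j : Fin n} (h : i ≠ j) (t : K) : (D.w i j t)⁻¹ = D.w i j (-t) := by
  simp only [w, mul_inv_rev, D.y_neg h, D.y_neg h.symm, inv_neg, neg_neg, mul_assoc]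

theorem w_conj_eq (i j : Fin n) (t : K) (x : G) :
    D.w i j t * x * (D.w i j t)⁻¹ = D.y i j t *
      (D.y j i (-t⁻¹) * (D.y i j t * x * (D.y i j t)⁻¹) * (D.y j i (-t⁻¹))⁻¹) * (D.y i j t)⁻¹ := by
  simp only [w, mul_inv_rev, mul_assoc]

theorem conj_mul' (g a b : G) : g * (a * b) * g⁻¹ = (g * a * g⁻¹) * (g * b * g⁻¹) := by group

variable {i j k : Fin n} (hij : i ≠ j) (hik : i ≠ k) (hjk : j ≠ k)
include hij hik hjk

theorem w_jk (t a : K) (ht : t ≠ 0) :
    D.w i j t * D.y j k a * (D.w i j t)⁻¹ = D.y i k (t * a) := by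
  rw [w_conj_eq, D.conj_left hij hjk hik, conj_mul' (D.y j i (-t⁻¹)), D.conj_left hij.symm hik hjk,
    D.conj_comm hij.symm hjk hjk hij,
    show -t⁻¹ * (t * a) = -a by field_simp, (D.comm hjk hik hjk hik.symm (-a) (t * a)).eq,
    mul_assoc (D.y i k (t * a)), D.add hjk, neg_add_cancel, D.y_zero hjk, mul_one, D.conj_comm hij hik hik hij.symm]

theorem w_ik (t a : K) (ht : t ≠ 0) :
    D.w i j t * D.y i k a * (D.w i j t)⁻¹ = D.y j k (-(t⁻¹ * a)) := by
  rw [w_conj_eq, D.conj_comm hij hik hik hij.symm, D.conj_left hij.symm hik hjk, conj_mul' (D.y i j t),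
    D.conj_left hij hjk hik, D.conj_comm hij hik hik hij.symm,
    show t * (-t⁻¹ * a) = -a by field_simp, (D.comm hik hjk hik hjk.symm (-a) (-t⁻¹ * a)).eq,
    mul_assoc (D.y j k (-t⁻¹ * a)), D.add hik, neg_add_cancel, D.y_zero hik, mul_one, neg_mul]

theorem w_ki (t a : K) (ht : t ≠ 0) :
    D.w i j t * D.y k i a * (D.w i j t)⁻¹ = D.y k j (-(t * a)) := by
  rw [w_conj_eq, D.conj_right hik.symm hij hjk.symm, conj_mul' (D.y j i (-t⁻¹)), D.conj_right hjk.symm hij.symm hik.symm,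
    D.conj_comm hij.symm hik.symm hij.symm hik,
    show -(-t⁻¹ * -(t * a)) = -a by field_simp,
    (D.comm hik.symm hjk.symm hjk.symm hik (-a) (-(t * a))).eq,
    mul_assoc (D.y k j (-(t * a))), D.add hik.symm, neg_add_cancel, D.y_zero hik.symm, mul_one,
    D.conj_comm hij hjk.symm hij hjk]

theorem w_kj (t a : K) (ht : t ≠ 0) :
    D.w i j t * D.y k j a * (D.w i j t)⁻¹ = D.y k i (t⁻¹ * a) := by
  rw [w_conj_eq, D.conj_comm hij hjk.symm hij hjk, D.conj_right hjk.symm hij.symm hik.symm,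
    conj_mul' (D.y i j t), D.conj_right hik.symm hij hjk.symm, D.conj_comm hij hjk.symm hij hjk,
    show -(t * -(-t⁻¹ * a)) = -a by field_simp,
    show -(-t⁻¹ * a) = t⁻¹ * a by ring,
    (D.comm hjk.symm hik.symm hik.symm hjk (-a) (t⁻¹ * a)).eq,
    mul_assoc (D.y k i (t⁻¹ * a)), D.add hjk.symm, neg_add_cancel, D.y_zero hjk.symm, mul_one]

theorem w_self (t u : K) (ht : t ≠ 0) :
    D.w i j t * D.y i j u * (D.w i j t)⁻¹ = D.y j i (-(t⁻¹ ^ 2 * u)) := by
  have h1 := D.brac hik hjk.symm hij u 1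
  rw [mul_one] at h1
  conv_lhs => rw [← h1]
  rw [conjugate_commutatorElement, D.w_ik hij hik hjk t u ht, D.w_kj hij hik hjk t 1 ht,
    D.brac hjk hik.symm hij.symm]
  congr 1
  ring

omit hik hjk in
theorem w_conj_fix {a b : Fin n} (hab : a ≠ b) (hai : a ≠ i) (haj : a ≠ j) (hbi : b ≠ i)
    (hbj : b ≠ j) (t u : K) : D.w i j t * D.y a b u * (D.w i j t)⁻¹ = D.y a b u := by
  rw [w_conj_eq, D.conj_comm hij hab hbi.symm haj.symm, D.conj_comm hij.symm hab hbj.symm hai.symm,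
    D.conj_comm hij hab hbi.symm haj.symm]

omit hij hik hjk

theorem exists_third (hn : 3 ≤ n) (a b : Fin n) : ∃ c : Fin n, a ≠ c ∧ b ≠ c := by
  obtain ⟨c, hc⟩ : ∃ c, c ∈ ({a, b} : Finset (Fin n))ᶜ := by
    refine Finset.card_pos.1 ?_
    rw [Finset.card_compl, Fintype.card_fin]
    have := Finset.card_le_two (a := a) (b := b)
    omega
  simp only [Finset.mem_compl, Finset.mem_insert, Finset.mem_singleton, not_or] at hc
  exact ⟨c, Ne.symm hc.1, Ne.symm hc.2⟩

/-- The rank one data of a root pair. -/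
def sdata (hn : 3 ≤ n) {a b : Fin n} (hab : a ≠ b) : SL2Pres.SData K G where
  X := D.y a b
  Y := D.y b a
  addX := D.add hab
  addY := D.add hab.symm
  relX t u ht := by
    obtain ⟨c, hac, hbc⟩ := exists_third hn a b
    exact D.w_self hab hac hbc t u ht
  relY t u ht := by
    obtain ⟨c, hac, hbc⟩ := exists_third hn a b
    exact D.w_self hab.symm hbc hac t u ht

/-- The homomorphism of `SL₂` onto the subgroup of a root pair. -/
noncomputable def phi [Finite K] (hn : 3 ≤ n) {a b : Fin n} (hab : a ≠ b) :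
    Matrix.SpecialLinearGroup (Fin 2) K →* G :=
  (SL2Pres.exists_hom (D.sdata hn hab)).choose

theorem phi_up [Finite K] (hn : 3 ≤ n) {a b : Fin n} (hab : a ≠ b) (t : K) :
    D.phi hn hab (SL2Pres.up t) = D.y a b t :=
  (SL2Pres.exists_hom (D.sdata hn hab)).choose_spec.1 t

theorem phi_low [Finite K] (hn : 3 ≤ n) {a b : Fin n} (hab : a ≠ b) (t : K) :
    D.phi hn hab (SL2Pres.low t) = D.y b a t :=
  (SL2Pres.exists_hom (D.sdata hn hab)).choose_spec.2 t

end Data

end Cfsg.Agent.SLPres
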