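import Cfsg.Agent.Lib.Classical.SL

/-!
The stabiliser of the first basis vector in `SLₙ` is generated by transvections.
-/

set_option autoImplicit false
set_option linter.style.haveILetI false

namespace Cfsg.Agent.SLPres

open Matrix

variable {r : ℕ} {K : Type*} [Field K]

/-- A block embedding of matrices fixing the first basis vector. -/
def embMat (c : Fin r → K) (g : Matrix (Fin r) (Fin r) K) : Matrix (Fin (r + 1)) (Fin (r + 1)) K :=
  Matrix.of fun i j => Fin.cases (Fin.cases 1 c j) (fun a => Fin.cases 0 (g a) j) i

theorem embMat_zero_zero (c : Fin r → K) (g : Matrix (Fin r) (Fin r) K) : embMat c g 0 0 = 1 := rfl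

theorem embMat_zero_succ (c : Fin r → K) (g : Matrix (Fin r) (Fin r) K) (b : Fin r) :
    embMat c g 0 b.succ = c b := rfl

theorem embMat_succ_zero (c : Fin r → K) (g : Matrix (Fin r) (Fin r) K) (a : Fin r) :
    embMat c g a.succ 0 = 0 := rfl

theorem embMat_succ_succ (c : Fin r → K) (g : Matrix (Fin r) (Fin r) K) (a b : Fin r) :
    embMat c g a.succ b.succ = g a b := rfl

theorem embMat_one : embMat (0 : Fin r → K) 1 = 1 := by
  ext i j
  cases i using Fin.cases <;> cases j using Fin.cases <;>
    simp [embMat_zero_zero, embMat_zero_succ, embMat_succ_zero, embMat_succ_succ, Matrix.one_apply,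
      Fin.succ_ne_zero, (Fin.succ_ne_zero _).symm]

theorem embMat_mul (c d : Fin r → K) (g h : Matrix (Fin r) (Fin r) K) :
    embMat c g * embMat d h = embMat (d + c ᵥ* h) (g * h) := by
  ext i j
  cases i using Fin.cases <;> cases j using Fin.cases <;>
    simp [Matrix.mul_apply, Fin.sum_univ_succ, embMat_zero_zero, embMat_zero_succ, embMat_succ_zero,
      embMat_succ_succ, Matrix.vecMul, dotProduct]

theorem det_embMat (c : Fin r → K) (g : Matrix (Fin r) (Fin r) K) :
    (embMat c g).det = g.det := by
  rw [Matrix.det_succ_column_zero, Fin.sum_univ_succ, Finset.sum_eq_zero fun a _ => by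
    rw [embMat_succ_zero, mul_zero, zero_mul]]
  simp [embMat_zero_zero, Matrix.submatrix, embMat_succ_succ]
  rfl

/-- The embedding of `SLᵣ` fixing the first basis vector. -/
def embHom : SpecialLinearGroup (Fin r) K →* SpecialLinearGroup (Fin (r + 1)) K where
  toFun g := ⟨embMat 0 g.1, by rw [det_embMat, g.2]⟩
  map_one' := Subtype.ext (by simpa using embMat_one (r := r) (K := K))
  map_mul' g h := Subtype.ext (by
    show embMat 0 (g.1 * h.1) = embMat 0 g.1 * embMat 0 h.1
    rw [embMat_mul]; simp)

/-- The first row group. -/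
def rowHom : Multiplicative (Fin r → K) →* SpecialLinearGroup (Fin (r + 1)) K where
  toFun c := ⟨embMat c.toAdd 1, by rw [det_embMat, det_one]⟩
  map_one' := Subtype.ext (by simpa using embMat_one (r := r) (K := K))
  map_mul' c d := Subtype.ext (by
    show embMat (c.toAdd + d.toAdd) 1 = embMat c.toAdd 1 * embMat d.toAdd 1
    rw [embMat_mul, Matrix.vecMul_one, one_mul]
    exact congrArg (fun x => embMat x 1) (add_comm _ _))

/-- The subgroup generated by the transvections fixing the first basis vector. -/
def colStab (r : ℕ) (K : Type*) [Field K] : Subgroup (SpecialLinearGroup (Fin (r + 1)) K) :=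
  Subgroup.closure {g | ∃ (i j : Fin (r + 1)) (h : i ≠ j) (t : K),
    j ≠ 0 ∧ g = SpecialLinearGroup.transvection h t}

theorem embHom_mem (g : SpecialLinearGroup (Fin r) K) : embHom g ∈ colStab r K := by
  rcases Nat.lt_or_ge r 2 with hr | hr
  · haveI : Subsingleton (SpecialLinearGroup (Fin r) K) := by
      haveI : Subsingleton (Fin r) := Fin.subsingleton_iff_le_one.2 (by omega)
      infer_instance
    rw [Subsingleton.elim g 1, map_one]
    exact one_mem _
  haveI : Nontrivial (Fin r) := Fin.nontrivial_iff_two_le.2 hr
  have h : g ∈ (colStab r K).comap embHom := by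
    have hg : g ∈ Subgroup.closure (ClassicalSL.elemTransvections (Fin r) K) := by
      rw [ClassicalSL.closure_elemTransvections]; trivial
    refine (Subgroup.closure_le _).2 ?_ hg
    rintro _ ⟨i, j, hij, c, rfl⟩
    refine Subgroup.subset_closure ⟨i.succ, j.succ, by simpa using hij, c, Fin.succ_ne_zero j, ?_⟩
    apply Subtype.ext
    show embMat 0 (SpecialLinearGroup.transvection hij c).1 = _
    rw [SpecialLinearGroup.transvection_coe, SpecialLinearGroup.transvection_coe]
    ext a b
    cases a using Fin.cases <;> cases b using Fin.cases <;>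
      simp [embMat_zero_zero, embMat_zero_succ, embMat_succ_zero, embMat_succ_succ, Matrix.one_apply,
        Matrix.single_apply, Fin.succ_ne_zero, (Fin.succ_ne_zero _).symm]
  exact h

theorem rowHom_mem (c : Fin r → K) : rowHom (Multiplicative.ofAdd c) ∈ colStab r K := by
  classical
  have hsingle : ∀ b x, rowHom (Multiplicative.ofAdd (Pi.single b x : Fin r → K)) ∈ colStab r K := by
    intro b x
    refine Subgroup.subset_closure ⟨0, b.succ, (Fin.succ_ne_zero b).symm, x, Fin.succ_ne_zero b, ?_⟩
    apply Subtype.ext
    show embMat (Pi.single b x) 1 = _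
    rw [SpecialLinearGroup.transvection_coe]
    ext a d
    cases a using Fin.cases <;> cases d using Fin.cases <;>
      simp [embMat_zero_zero, embMat_zero_succ, embMat_succ_zero, embMat_succ_succ, Matrix.one_apply,
        Matrix.single_apply, Pi.single_apply, Fin.succ_ne_zero, (Fin.succ_ne_zero _).symm, eq_comm]
  let S : AddSubgroup (Fin r → K) :=
    { carrier := {d | rowHom (Multiplicative.ofAdd d) ∈ colStab r K}
      add_mem' := fun {a b} ha hb => by
        show rowHom (Multiplicative.ofAdd (a + b)) ∈ colStab r K
        rw [ofAdd_add, map_mul]; exact mul_mem ha hb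
      zero_mem' := by
        show rowHom (Multiplicative.ofAdd 0) ∈ colStab r K
        rw [ofAdd_zero, map_one]; exact one_mem _
      neg_mem' := fun {a} ha => by
        show rowHom (Multiplicative.ofAdd (-a)) ∈ colStab r K
        rw [ofAdd_neg, map_inv]; exact inv_mem ha }
  have hc : c ∈ S := by
    rw [← Finset.univ_sum_single c]
    exact sum_mem fun b _ => hsingle b (c b)
  exact hc

/-- An element fixing the first basis vector lies in the stabiliser subgroup. -/
theorem mem_colStab {g : SpecialLinearGroup (Fin (r + 1)) K} (h0 : g.1 0 0 = 1)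
    (ha : ∀ a : Fin r, g.1 a.succ 0 = 0) : g ∈ colStab r K := by
  have hform : g.1 = embMat (fun b => g.1 0 b.succ) (g.1.submatrix Fin.succ Fin.succ) := by
    ext i j
    cases i using Fin.cases <;> cases j using Fin.cases <;>
      simp [embMat_zero_zero, embMat_zero_succ, embMat_succ_zero, embMat_succ_succ, h0, ha]
  have hdet : (g.1.submatrix Fin.succ Fin.succ).det = 1 := by
    rw [← det_embMat (fun b => g.1 0 b.succ), ← hform, g.2]
  have hg : g = embHom ⟨_, hdet⟩ * rowHom (Multiplicative.ofAdd fun b => g.1 0 b.succ) := by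
    apply Subtype.ext
    show g.1 = embMat 0 (g.1.submatrix Fin.succ Fin.succ) * embMat (fun b => g.1 0 b.succ) 1
    rw [embMat_mul, Matrix.vecMul_one, mul_one, add_zero, ← hform]
  rw [hg]
  exact mul_mem (embHom_mem _) (rowHom_mem _)

end Cfsg.Agent.SLPres
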