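import Cfsg.Agent.Lib.SLPres.Data
import Cfsg.Agent.Lib.SLPres.Stab
import Mathlib.GroupTheory.NoncommPiCoprod
import Mathlib.GroupTheory.Coset.Card

/-!
A group with Steinberg root elements of type `A` over a finite field is no larger than `SLₙ`:
the cosets of the stabiliser of the last basis vector correspond to non-zero vectors.
-/

set_option autoImplicit false
set_option linter.style.haveILetI false

namespace Cfsg.Agent.SLPres

open Matrix

variable {r : ℕ} {K : Type*} [Field K] {G : Type*} [Group G] (D : Data (r + 2) K G)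

namespace Orbit

/-- The last index. -/
abbrev z (r : ℕ) : Fin (r + 2) := Fin.last (r + 1)

theorem zero_ne_z : (0 : Fin (r + 2)) ≠ z r := by
  intro h
  simpa [z] using congrArg Fin.val h

theorem castSucc_ne_z (i : Fin (r + 1)) : i.castSucc ≠ z r := (Fin.castSucc_lt_last i).ne

theorem castSucc_inj_ne {i j : Fin (r + 1)} (h : i ≠ j) : i.castSucc ≠ j.castSucc :=
  fun e => h (Fin.castSucc_injective _ e)

/-- The stabiliser of the last basis vector. -/
def Pst : Subgroup G :=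
  Subgroup.closure {g | ∃ (i j : Fin (r + 2)) (t : K), i ≠ j ∧ j ≠ z r ∧ g = D.y i j t}

/-- The subgroup of the roots avoiding the last index. -/
def Hsub : Subgroup G :=
  Subgroup.closure {g | ∃ (i j : Fin (r + 2)) (t : K), i ≠ j ∧ i ≠ z r ∧ j ≠ z r ∧ g = D.y i j t}

theorem mem_Pst {i j : Fin (r + 2)} (h : i ≠ j) (hj : j ≠ z r) (t : K) : D.y i j t ∈ Pst D :=
  Subgroup.subset_closure ⟨i, j, t, h, hj, rfl⟩

theorem mem_Hsub {i j : Fin (r + 2)} (h : i ≠ j) (hi : i ≠ z r) (hj : j ≠ z r) (t : K) :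
    D.y i j t ∈ Hsub D :=
  Subgroup.subset_closure ⟨i, j, t, h, hi, hj, rfl⟩

theorem Hsub_le_Pst : Hsub D ≤ Pst D := by
  rw [Hsub, Subgroup.closure_le]
  rintro _ ⟨i, j, t, h, _, hj, rfl⟩
  exact mem_Pst D h hj t

/-- The root group into the last column. -/
def colRoot (i : Fin (r + 1)) : Multiplicative K →* G where
  toFun t := D.y i.castSucc (z r) t.toAdd
  map_one' := D.y_zero (castSucc_ne_z i)
  map_mul' t u := (D.add (castSucc_ne_z i) t.toAdd u.toAdd).symm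

/-- The root group into the last row. -/
def rowRoot (i : Fin (r + 1)) : Multiplicative K →* G where
  toFun t := D.y (z r) i.castSucc t.toAdd
  map_one' := D.y_zero (castSucc_ne_z i).symm
  map_mul' t u := (D.add (castSucc_ne_z i).symm t.toAdd u.toAdd).symm

theorem colRoot_comm : Pairwise fun i j : Fin (r + 1) => ∀ x y : Multiplicative K,
    Commute (colRoot D i x) (colRoot D j y) := fun i j _ x y =>
  D.comm (castSucc_ne_z i) (castSucc_ne_z j) (castSucc_ne_z i) (castSucc_ne_z j).symm _ _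

theorem rowRoot_comm : Pairwise fun i j : Fin (r + 1) => ∀ x y : Multiplicative K,
    Commute (rowRoot D i x) (rowRoot D j y) := fun i j _ x y =>
  D.comm (castSucc_ne_z i).symm (castSucc_ne_z j).symm (castSucc_ne_z j).symm (castSucc_ne_z i) _ _

/-- The last column group. -/
def colHom : (Fin (r + 1) → Multiplicative K) →* G :=
  MonoidHom.noncommPiCoprod (colRoot D) (colRoot_comm D)

/-- The last row group. -/
def rowHom' : (Fin (r + 1) → Multiplicative K) →* G :=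
  MonoidHom.noncommPiCoprod (rowRoot D) (rowRoot_comm D)

theorem colHom_mem {S : Subgroup G} (v : Fin (r + 1) → Multiplicative K)
    (h : ∀ i, colRoot D i (v i) ∈ S) : colHom D v ∈ S := by
  simp only [colHom, MonoidHom.noncommPiCoprod, MonoidHom.coe_mk, OneHom.coe_mk]
  exact Subgroup.noncommProd_mem S _ fun i _ => h i

theorem rowHom_mem' {S : Subgroup G} (v : Fin (r + 1) → Multiplicative K)
    (h : ∀ i, rowRoot D i (v i) ∈ S) : rowHom' D v ∈ S := by
  simp only [rowHom', MonoidHom.noncommPiCoprod, MonoidHom.coe_mk, OneHom.coe_mk]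
  exact Subgroup.noncommProd_mem S _ fun i _ => h i

theorem col_mem_range (a : Fin (r + 2)) (ha : a ≠ z r) (t : K) : D.y a (z r) t ∈ (colHom D).range := by
  obtain ⟨i, rfl⟩ : ∃ i : Fin (r + 1), i.castSucc = a := Fin.exists_castSucc_eq.2 ha
  exact ⟨Pi.mulSingle i (Multiplicative.ofAdd t), MonoidHom.noncommPiCoprod_mulSingle (colRoot D) i _⟩

theorem row_mem_range (a : Fin (r + 2)) (ha : a ≠ z r) (t : K) : D.y (z r) a t ∈ (rowHom' D).range := by
  obtain ⟨i, rfl⟩ : ∃ i : Fin (r + 1), i.castSucc = a := Fin.exists_castSucc_eq.2 ha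
  exact ⟨Pi.mulSingle i (Multiplicative.ofAdd t), MonoidHom.noncommPiCoprod_mulSingle (rowRoot D) i _⟩

/-- The roots avoiding the last index normalise the last column group. -/
theorem conj_col {a b : Fin (r + 2)} (hab : a ≠ b) (ha : a ≠ z r) (hb : b ≠ z r) (t : K) {x : G}
    (hx : x ∈ (colHom D).range) : D.y a b t * x * (D.y a b t)⁻¹ ∈ (colHom D).range := by
  obtain ⟨v, rfl⟩ := hx
  change colHom D v ∈ (colHom D).range.comap (MulAut.conj (D.y a b t)).toMonoidHom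
  refine colHom_mem D v fun i => ?_
  show D.y a b t * D.y i.castSucc (z r) (v i).toAdd * (D.y a b t)⁻¹ ∈ (colHom D).range
  rcases eq_or_ne b i.castSucc with rfl | hbi
  · rw [D.conj_left hab (castSucc_ne_z i) ha]
    exact mul_mem (col_mem_range D a ha _) (col_mem_range D _ (castSucc_ne_z i) _)
  · rw [D.conj_comm hab (castSucc_ne_z i) ha hbi]
    exact col_mem_range D _ (castSucc_ne_z i) _

/-- The roots avoiding the last index normalise the last row group. -/
theorem conj_row {a b : Fin (r + 2)} (hab : a ≠ b) (ha : a ≠ z r) (hb : b ≠ z r) (t : K) {x : G}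
    (hx : x ∈ (rowHom' D).range) : D.y a b t * x * (D.y a b t)⁻¹ ∈ (rowHom' D).range := by
  obtain ⟨v, rfl⟩ := hx
  change rowHom' D v ∈ (rowHom' D).range.comap (MulAut.conj (D.y a b t)).toMonoidHom
  refine rowHom_mem' D v fun i => ?_
  show D.y a b t * D.y (z r) i.castSucc (v i).toAdd * (D.y a b t)⁻¹ ∈ (rowHom' D).range
  rcases eq_or_ne a i.castSucc with rfl | hai
  · rw [D.conj_right (castSucc_ne_z i).symm hab hb.symm]
    exact mul_mem (row_mem_range D b hb _) (row_mem_range D _ (castSucc_ne_z i) _)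
  · rw [D.conj_comm hab (castSucc_ne_z i).symm hai hb]
    exact row_mem_range D _ (castSucc_ne_z i) _

theorem Hsub_normalizes (N : Subgroup G)
    (h : ∀ ⦃a b : Fin (r + 2)⦄, a ≠ b → a ≠ z r → b ≠ z r → ∀ (t : K), ∀ x ∈ N,
      D.y a b t * x * (D.y a b t)⁻¹ ∈ N) : Hsub D ≤ Subgroup.normalizer (N : Set G) := by
  rw [Hsub, Subgroup.closure_le]
  rintro _ ⟨a, b, t, hab, ha, hb, rfl⟩
  rw [SetLike.mem_coe, Subgroup.mem_normalizer_iff]
  refine fun x => ⟨fun hx => h hab ha hb t x hx, fun hx => ?_⟩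
  have h2 := h hab ha hb (-t) _ hx
  rwa [← D.y_neg hab, inv_inv, ← mul_assoc, ← mul_assoc, inv_mul_cancel, one_mul,
    inv_mul_cancel_right] at h2

section finite

variable [Finite K]

theorem three_le (hr : 1 ≤ r) : 3 ≤ r + 2 := by omega

/-- The rank one subgroup of the pair `(0, z)`. -/
noncomputable def phiZ (hr : 1 ≤ r) : SpecialLinearGroup (Fin 2) K →* G :=
  D.phi (three_le hr) zero_ne_z

/-- The monomial matrix. -/
def wS (t : Kˣ) : SpecialLinearGroup (Fin 2) K :=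
  SL2Pres.up (t : K) * SL2Pres.low (-((t : K))⁻¹) * SL2Pres.up (t : K)

/-- The diagonal matrix. -/
def dS (c : Kˣ) : SpecialLinearGroup (Fin 2) K :=
  ⟨!![(c : K), 0; 0, (c : K)⁻¹], by simp [Matrix.det_fin_two]⟩

omit [Finite K] in
theorem wS_val (t : Kˣ) : (wS t).1 = !![0, (t : K); -((t : K))⁻¹, 0] := by
  show !![1, (t : K); 0, 1] * !![1, 0; -((t : K))⁻¹, 1] * !![1, (t : K); 0, 1] = _
  simp [Matrix.mul_fin_two]

omit [Finite K] in
theorem dS_eq (c : Kˣ) : dS c = wS c * wS (-1) := by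
  apply Subtype.ext
  show !![(c : K), 0; 0, (c : K)⁻¹] = (wS c).1 * (wS (-1)).1
  rw [wS_val, wS_val]
  simp [Matrix.mul_fin_two]

omit [Finite K] in
theorem sl2_cases (g : SpecialLinearGroup (Fin 2) K) :
    (∃ (s : K) (c : Kˣ) (u : K), g = SL2Pres.up s * dS c * SL2Pres.low u) ∨
      ∃ (c : Kˣ) (u : K), g = dS c * wS 1 * SL2Pres.low u := by
  have hdet : g.1 0 0 * g.1 1 1 - g.1 0 1 * g.1 1 0 = 1 := by rw [← Matrix.det_fin_two]; exact g.2
  by_cases hb : g.1 1 1 = 0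
  · have ha : g.1 0 1 ≠ 0 := fun ha => by simp [ha, hb] at hdet
    refine Or.inr ⟨Units.mk0 _ ha, g.1 0 0 / g.1 0 1, ?_⟩
    apply Subtype.ext
    show g.1 = !![g.1 0 1, 0; 0, (g.1 0 1)⁻¹] * (wS 1).1 * !![1, 0; g.1 0 0 / g.1 0 1, 1]
    rw [wS_val]
    have h10 : g.1 1 0 = -(g.1 0 1)⁻¹ := by
      rw [hb, mul_zero, zero_sub] at hdet
      field_simp
      linear_combination -hdet
    ext i j
    fin_cases i <;> fin_cases j <;> simp [Matrix.mul_fin_two, hb, h10] <;> field_simp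
  · refine Or.inl ⟨g.1 0 1 / g.1 1 1, (Units.mk0 _ hb)⁻¹, g.1 1 0 / g.1 1 1, ?_⟩
    apply Subtype.ext
    show g.1 = !![1, g.1 0 1 / g.1 1 1; 0, 1] *
      !![(((Units.mk0 _ hb)⁻¹ : Kˣ) : K), 0; 0, (((Units.mk0 _ hb)⁻¹ : Kˣ) : K)⁻¹] *
        !![1, 0; g.1 1 0 / g.1 1 1, 1]
    ext i j
    fin_cases i <;> fin_cases j <;> simp [Matrix.mul_fin_two] <;> field_simp <;>
      first | linear_combination hdet | skip

theorem phiZ_up (hr : 1 ≤ r) (t : K) : phiZ D hr (SL2Pres.up t) = D.y 0 (z r) t :=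
  D.phi_up (three_le hr) zero_ne_z t

theorem phiZ_low (hr : 1 ≤ r) (t : K) : phiZ D hr (SL2Pres.low t) = D.y (z r) 0 t :=
  D.phi_low (three_le hr) zero_ne_z t

theorem phiZ_wS (hr : 1 ≤ r) (t : Kˣ) : phiZ D hr (wS t) = D.w 0 (z r) t := by
  rw [wS, map_mul, map_mul, phiZ_up, phiZ_low, Data.w]

theorem phiZ_dS (hr : 1 ≤ r) (c : Kˣ) :
    phiZ D hr (dS c) = D.w 0 (z r) (c : K) * D.w 0 (z r) (-1) := by
  rw [dS_eq, map_mul, phiZ_wS, phiZ_wS, Units.val_neg, Units.val_one]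

/-- The torus of the pair maps the other roots of `Hsub` into the stabiliser. -/
theorem dS_conj (hr : 1 ≤ r) (c : Kˣ) {a b : Fin (r + 2)} (hab : a ≠ b) (ha : a ≠ z r)
    (hb : b ≠ z r) (u : K) :
    phiZ D hr (dS c) * D.y a b u * (phiZ D hr (dS c))⁻¹ ∈ Pst D := by
  rw [phiZ_dS, _root_.mul_inv_rev, show D.w 0 (z r) (c : K) * D.w 0 (z r) (-1) * D.y a b u *
      ((D.w 0 (z r) (-1))⁻¹ * (D.w 0 (z r) (c : K))⁻¹) = D.w 0 (z r) (c : K) *
      (D.w 0 (z r) (-1) * D.y a b u * (D.w 0 (z r) (-1))⁻¹) * (D.w 0 (z r) (c : K))⁻¹ by group]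
  have h1 : (-1 : K) ≠ 0 := neg_ne_zero.2 one_ne_zero
  have hc := c.ne_zero
  rcases eq_or_ne a 0 with rfl | ha0
  · rw [D.w_ik zero_ne_z hab hb.symm _ _ h1, D.w_jk zero_ne_z hab hb.symm _ _ hc]
    exact mem_Pst D hab hb _
  rcases eq_or_ne b 0 with rfl | hb0
  · rw [D.w_ki zero_ne_z ha0.symm ha.symm _ _ h1, D.w_kj zero_ne_z ha0.symm ha.symm _ _ hc]
    exact mem_Pst D ha0 hb _
  rw [D.w_conj_fix zero_ne_z hab ha0 ha hb0 hb, D.w_conj_fix zero_ne_z hab ha0 ha hb0 hb]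
  exact mem_Pst D hab hb _

theorem dS_conj_Hsub (hr : 1 ≤ r) (c : Kˣ) {h : G} (hh : h ∈ Hsub D) :
    phiZ D hr (dS c) * h * (phiZ D hr (dS c))⁻¹ ∈ Pst D := by
  change h ∈ (Pst D).comap (MulAut.conj (phiZ D hr (dS c))).toMonoidHom
  refine (Subgroup.closure_le _).2 ?_ hh
  rintro _ ⟨a, b, t, hab, ha, hb, rfl⟩
  exact dS_conj D hr c hab ha hb t

theorem dS_inv (hr : 1 ≤ r) (c : Kˣ) : (phiZ D hr (dS c))⁻¹ = phiZ D hr (dS c⁻¹) := by
  refine inv_eq_of_mul_eq_one_right ?_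
  rw [← map_mul, show dS c * dS c⁻¹ = 1 by
    apply Subtype.ext
    show !![(c : K), 0; 0, (c : K)⁻¹] * !![((c⁻¹ : Kˣ) : K), 0; 0, (((c⁻¹ : Kˣ) : K))⁻¹] = 1
    simp [Matrix.mul_fin_two, Matrix.one_fin_two], map_one]

/-- The fixed Weyl element, sending the last basis vector to the first. -/
noncomputable def wd : G := D.w 0 (z r) 1

theorem wd_inv : (wd D)⁻¹ = D.w 0 (z r) (-1) := D.w_inv zero_ne_z 1

theorem wd_conj {x : G} : (wd D)⁻¹ * x * wd D = D.w 0 (z r) (-1) * x * (D.w 0 (z r) (-1))⁻¹ := by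
  rw [← wd_inv, inv_inv]

theorem wd_conj_col (hr : 1 ≤ r) (a : Fin (r + 2)) (ha : a ≠ z r) (t : K) :
    (wd D)⁻¹ * D.y a (z r) t * wd D ∈ Pst D := by
  rw [wd_conj]
  have h1 : (-1 : K) ≠ 0 := neg_ne_zero.2 one_ne_zero
  rcases eq_or_ne a 0 with rfl | ha0
  · obtain ⟨c, hc1, hc2⟩ := Data.exists_third (three_le hr) (0 : Fin (r + 2)) (z r)
    rw [D.w_self zero_ne_z hc1 hc2 _ _ h1]
    exact mem_Pst D zero_ne_z.symm zero_ne_z _
  · rw [D.w_kj zero_ne_z ha0.symm ha.symm _ _ h1]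
    exact mem_Pst D ha0 zero_ne_z _

theorem wd_conj_row {a : Fin (r + 2)} (ha : a ≠ z r) (ha0 : a ≠ 0) (t : K) :
    (wd D)⁻¹ * D.y (z r) a t * wd D ∈ Pst D := by
  rw [wd_conj, D.w_jk zero_ne_z ha0.symm ha.symm _ _ (neg_ne_zero.2 one_ne_zero)]
  exact mem_Pst D ha0.symm ha _

/-- The union of the two kinds of cosets. -/
def cosetSet (hr : 1 ≤ r) : Set G :=
  {g | (∃ (v : Fin (r + 1) → Multiplicative K) (c : Kˣ),
      (colHom D v * phiZ D hr (dS c))⁻¹ * g ∈ Pst D) ∨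
    ∃ h ∈ Hsub D, (h * wd D)⁻¹ * g ∈ Pst D}

theorem one_mem_cosetSet (hr : 1 ≤ r) : (1 : G) ∈ cosetSet D hr := by
  refine Or.inl ⟨1, 1, ?_⟩
  rw [show dS (1 : Kˣ) = 1 by
    apply Subtype.ext
    show !![((1 : Kˣ) : K), 0; 0, ((1 : Kˣ) : K)⁻¹] = 1
    simp [Matrix.one_fin_two]]
  simp

/-- The stabiliser of the coset set. -/
def stab (hr : 1 ≤ r) : Subgroup G where
  carrier := {g | ∀ x, g * x ∈ cosetSet D hr ↔ x ∈ cosetSet D hr}
  one_mem' := fun x => by rw [one_mul]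
  mul_mem' := fun {a b} ha hb x => by rw [mul_assoc, ha, hb]
  inv_mem' := fun {a} ha x => by rw [← ha, mul_inv_cancel_left]

theorem mem_stab_of_root (hr : 1 ≤ r) {a b : Fin (r + 2)} (hab : a ≠ b)
    (h : ∀ (t : K), ∀ x ∈ cosetSet D hr, D.y a b t * x ∈ cosetSet D hr) (t : K) :
    D.y a b t ∈ stab D hr := by
  intro x
  refine ⟨fun hx => ?_, h t x⟩
  have h2 := h (-t) _ hx
  rwa [← D.y_neg hab, inv_mul_cancel_left] at h2

theorem Hsub_le_stab (hr : 1 ≤ r) : Hsub D ≤ stab D hr := by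
  rw [Hsub, Subgroup.closure_le]
  rintro _ ⟨a, b, t, hab, ha, hb, rfl⟩
  refine mem_stab_of_root D hr hab (fun s x hx => ?_) t
  rcases hx with ⟨v, c, hx⟩ | ⟨h, hh, hx⟩
  · obtain ⟨v', hv'⟩ := conj_col D hab ha hb s (⟨v, rfl⟩ : colHom D v ∈ (colHom D).range)
    refine Or.inl ⟨v', c, ?_⟩
    have key : (colHom D v' * phiZ D hr (dS c))⁻¹ * (D.y a b s * x) =
        ((phiZ D hr (dS c))⁻¹ * D.y a b s * phiZ D hr (dS c)) *
          ((colHom D v * phiZ D hr (dS c))⁻¹ * x) := by rw [hv']; group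
    rw [key]
    refine mul_mem ?_ hx
    have h3 := dS_conj D hr c⁻¹ hab ha hb s
    rwa [← dS_inv, inv_inv] at h3
  · refine Or.inr ⟨D.y a b s * h, mul_mem (mem_Hsub D hab ha hb s) hh, ?_⟩
    rwa [show (D.y a b s * h * wd D)⁻¹ * (D.y a b s * x) = (h * wd D)⁻¹ * x by group]

theorem col_le_stab (hr : 1 ≤ r) : (colHom D).range ≤ stab D hr := by
  rintro _ ⟨u, rfl⟩
  refine colHom_mem D u fun i => ?_
  refine mem_stab_of_root D hr (castSucc_ne_z i) (fun s x hx => ?_) _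
  obtain ⟨u', hu'⟩ := col_mem_range D _ (castSucc_ne_z i) s
  rcases hx with ⟨v, c, hx⟩ | ⟨h, hh, hx⟩
  · refine Or.inl ⟨u' * v, c, ?_⟩
    rwa [map_mul, hu', show (D.y i.castSucc (z r) s * colHom D v * phiZ D hr (dS c))⁻¹ *
      (D.y i.castSucc (z r) s * x) = (colHom D v * phiZ D hr (dS c))⁻¹ * x by group]
  · refine Or.inr ⟨h, hh, ?_⟩
    have hconj : h⁻¹ * D.y i.castSucc (z r) s * h ∈ (colHom D).range := by
      have := Hsub_normalizes D _ (fun a b hab ha hb t y hy => conj_col D hab ha hb t hy)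
        (inv_mem hh)
      have h2 := (Subgroup.mem_normalizer_iff.1 this _).1 (col_mem_range D _ (castSucc_ne_z i) s)
      rwa [inv_inv] at h2
    rw [show (h * wd D)⁻¹ * (D.y i.castSucc (z r) s * x) =
      ((wd D)⁻¹ * (h⁻¹ * D.y i.castSucc (z r) s * h) * wd D) * ((h * wd D)⁻¹ * x) by group]
    refine mul_mem ?_ hx
    obtain ⟨v, hv⟩ := hconj
    rw [← hv]
    have : colHom D v ∈ (Pst D).comap (MulAut.conj (wd D)⁻¹).toMonoidHom :=
      colHom_mem D v fun j => by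
        show (wd D)⁻¹ * colRoot D j (v j) * (wd D)⁻¹⁻¹ ∈ Pst D
        rw [inv_inv]
        exact wd_conj_col D hr _ (castSucc_ne_z j) _
    simpa using this

/-- The rank one subgroup sends the base coset into the coset set. -/
theorem phiZ_mul_mem (hr : 1 ≤ r) (g : SpecialLinearGroup (Fin 2) K) {x : G} (hx : x ∈ Pst D) :
    phiZ D hr g * x ∈ cosetSet D hr := by
  rcases sl2_cases g with ⟨s, c, u, rfl⟩ | ⟨c, u, rfl⟩
  · obtain ⟨v, hv⟩ := col_mem_range D 0 zero_ne_z s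
    refine Or.inl ⟨v, c, ?_⟩
    rw [hv, map_mul, map_mul, phiZ_up, phiZ_low,
      show (D.y 0 (z r) s * phiZ D hr (dS c))⁻¹ *
        (D.y 0 (z r) s * phiZ D hr (dS c) * D.y (z r) 0 u * x) = D.y (z r) 0 u * x by group]
    exact mul_mem (mem_Pst D zero_ne_z.symm zero_ne_z u) hx
  · obtain ⟨k, hk0, hkz⟩ := Data.exists_third (three_le hr) (0 : Fin (r + 2)) (z r)
    have hc := c.ne_zero
    have h1 : (-1 : K) ≠ 0 := neg_ne_zero.2 one_ne_zero
    let h := D.w k (z r) (c : K) * D.w k (z r) (-1)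
    have hv : ∀ t : K, D.w 0 k 1 * D.w k (z r) t * (D.w 0 k 1)⁻¹ = D.w 0 (z r) t := by
      intro t
      rw [show D.w k (z r) t = D.y k (z r) t * D.y (z r) k (-t⁻¹) * D.y k (z r) t from rfl,
        Data.conj_mul' (D.w 0 k 1), Data.conj_mul' (D.w 0 k 1),
        D.w_jk hk0 zero_ne_z hkz.symm _ _ one_ne_zero,
        D.w_kj hk0 zero_ne_z hkz.symm _ _ one_ne_zero, inv_one, one_mul, one_mul]
      rfl
    have hh1 : ∀ a : K, h * D.y 0 k a * h⁻¹ = D.y 0 k ((c : K)⁻¹ * a) := by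
      intro a
      rw [show h * D.y 0 k a * h⁻¹ = D.w k (z r) (c : K) * (D.w k (z r) (-1) * D.y 0 k a *
        (D.w k (z r) (-1))⁻¹) * (D.w k (z r) (c : K))⁻¹ by simp only [h]; group,
        D.w_ki hkz.symm hk0.symm zero_ne_z.symm _ _ h1, D.w_kj hkz.symm hk0.symm zero_ne_z.symm _ _ hc]
      congr 1
      ring
    have hh2 : ∀ a : K, h * D.y k 0 a * h⁻¹ = D.y k 0 ((c : K) * a) := by
      intro a
      rw [show h * D.y k 0 a * h⁻¹ = D.w k (z r) (c : K) * (D.w k (z r) (-1) * D.y k 0 a *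
        (D.w k (z r) (-1))⁻¹) * (D.w k (z r) (c : K))⁻¹ by simp only [h]; group,
        D.w_ik hkz.symm hk0.symm zero_ne_z.symm _ _ h1, D.w_jk hkz.symm hk0.symm zero_ne_z.symm _ _ hc]
      congr 1
      field_simp
    have hH : D.w 0 k 1 * (h * (D.w 0 k 1)⁻¹ * h⁻¹) ∈ Hsub D := by
      have hy := fun a => mem_Hsub D hk0 zero_ne_z hkz.symm a
      have hy' := fun a => mem_Hsub D hk0.symm hkz.symm zero_ne_z a
      rw [D.w_inv hk0,
        show D.w 0 k (-1) = D.y 0 k (-1) * D.y k 0 (-(-1 : K)⁻¹) * D.y 0 k (-1) from rfl,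
        show D.w 0 k 1 = D.y 0 k 1 * D.y k 0 (-(1 : K)⁻¹) * D.y 0 k 1 from rfl,
        Data.conj_mul' h, Data.conj_mul' h, hh1, hh2]
      exact mul_mem (mul_mem (mul_mem (hy _) (hy' _)) (hy _)) (mul_mem (mul_mem (hy _) (hy' _)) (hy _))
    refine Or.inr ⟨_, hH, ?_⟩
    have hd : phiZ D hr (dS c) = D.w 0 k 1 * (h * (D.w 0 k 1)⁻¹ * h⁻¹) * h := by
      rw [phiZ_dS, ← hv, ← hv]
      simp only [h]
      group
    have hwh : (wd D)⁻¹ * h * wd D ∈ Pst D := by
      have hy : ∀ a : K, (wd D)⁻¹ * D.y k (z r) a * wd D ∈ Pst D :=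
        fun a => wd_conj_col D hr k hkz.symm a
      have hy' : ∀ a : K, (wd D)⁻¹ * D.y (z r) k a * wd D ∈ Pst D :=
        fun a => wd_conj_row D hkz.symm hk0.symm a
      have hw : ∀ t : K, (wd D)⁻¹ * D.w k (z r) t * wd D ∈ Pst D := fun t => by
        rw [Data.w, show (wd D)⁻¹ * (D.y k (z r) t * D.y (z r) k (-t⁻¹) * D.y k (z r) t) * wd D =
          ((wd D)⁻¹ * D.y k (z r) t * wd D) * ((wd D)⁻¹ * D.y (z r) k (-t⁻¹) * wd D) *
            ((wd D)⁻¹ * D.y k (z r) t * wd D) by group]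
        exact mul_mem (mul_mem (hy _) (hy' _)) (hy _)
      rw [show (wd D)⁻¹ * h * wd D = ((wd D)⁻¹ * D.w k (z r) (c : K) * wd D) *
        ((wd D)⁻¹ * D.w k (z r) (-1) * wd D) by simp only [h]; group]
      exact mul_mem (hw _) (hw _)
    rw [map_mul, map_mul, phiZ_wS, phiZ_low, hd, Units.val_one, ← wd]
    rw [show (D.w 0 k 1 * (h * (D.w 0 k 1)⁻¹ * h⁻¹) * wd D)⁻¹ *
        (D.w 0 k 1 * (h * (D.w 0 k 1)⁻¹ * h⁻¹) * h * wd D * D.y (z r) 0 u * x) =
      ((wd D)⁻¹ * h * wd D) * (D.y (z r) 0 u * x) by group]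
    exact mul_mem hwh (mul_mem (mem_Pst D zero_ne_z.symm zero_ne_z u) hx)

theorem zero_row_mem_stab (hr : 1 ≤ r) (t : K) : D.y (z r) 0 t ∈ stab D hr := by
  refine mem_stab_of_root D hr zero_ne_z.symm (fun s x hx => ?_) t
  rcases hx with ⟨v, c, hx⟩ | ⟨h, hh, hx⟩
  · -- split off the coordinate `0`
    let v' : Fin (r + 1) → Multiplicative K := Function.update v 0 1
    have hsplit : v = v' * Pi.mulSingle 0 (v 0) := by
      funext i
      rcases eq_or_ne i 0 with rfl | hi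
      · simp [v']
      · simp [v', hi]
    have hv' : D.y (z r) 0 s * colHom D v' * (D.y (z r) 0 s)⁻¹ ∈ stab D hr := by
      change colHom D v' ∈ (stab D hr).comap (MulAut.conj (D.y (z r) 0 s)).toMonoidHom
      refine colHom_mem D v' fun i => ?_
      rcases eq_or_ne i 0 with rfl | hi
      · simp [v']
      · have hi' : i.castSucc ≠ 0 := castSucc_inj_ne hi
        show D.y (z r) 0 s * D.y i.castSucc (z r) (v' i).toAdd * (D.y (z r) 0 s)⁻¹ ∈ stab D hr
        rw [D.conj_right (castSucc_ne_z i) zero_ne_z.symm hi']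
        exact mul_mem (Hsub_le_stab D hr (mem_Hsub D hi' (castSucc_ne_z i) zero_ne_z _))
          (col_le_stab D hr (col_mem_range D _ (castSucc_ne_z i) _))
    have e : D.y (z r) 0 s * x = (D.y (z r) 0 s * colHom D v' * (D.y (z r) 0 s)⁻¹) *
        (phiZ D hr (SL2Pres.low s * SL2Pres.up (v 0).toAdd * dS c) *
          ((colHom D v * phiZ D hr (dS c))⁻¹ * x)) := by
      rw [map_mul, map_mul, phiZ_low, phiZ_up]
      have h0 : colHom D v = colHom D v' * D.y 0 (z r) (v 0).toAdd := by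
        conv_lhs => rw [hsplit]
        rw [map_mul]
        congr 1
        exact MonoidHom.noncommPiCoprod_mulSingle (colRoot D) (0 : Fin (r + 1)) _
      rw [h0]
      group
    rw [e]
    exact (hv' _).2 (phiZ_mul_mem D hr _ hx)
  · obtain ⟨u, hu⟩ : h⁻¹ * D.y (z r) 0 s * h ∈ (rowHom' D).range := by
      have := Hsub_normalizes D _ (fun a b hab ha hb t y hy => conj_row D hab ha hb t hy) (inv_mem hh)
      have h2 := (Subgroup.mem_normalizer_iff.1 this _).1 (row_mem_range D _ zero_ne_z s)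
      rwa [inv_inv] at h2
    let u' : Fin (r + 1) → Multiplicative K := Function.update u 0 1
    have hsplit : u = Pi.mulSingle 0 (u 0) * u' := by
      funext i
      rcases eq_or_ne i 0 with rfl | hi
      · simp [u']
      · simp [u', hi]
    have hu' : (wd D)⁻¹ * rowHom' D u' * wd D ∈ Pst D := by
      have : rowHom' D u' ∈ (Pst D).comap (MulAut.conj (wd D)⁻¹).toMonoidHom :=
        rowHom_mem' D u' fun i => by
          rcases eq_or_ne i 0 with rfl | hi
          · simp [u']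
          · show (wd D)⁻¹ * rowRoot D i (u' i) * (wd D)⁻¹⁻¹ ∈ Pst D
            rw [inv_inv]
            exact wd_conj_row D (castSucc_ne_z i) (castSucc_inj_ne hi) _
      simpa using this
    have h0 : rowHom' D u = D.y (z r) 0 (u 0).toAdd * rowHom' D u' := by
      conv_lhs => rw [hsplit]
      rw [map_mul]
      congr 1
      exact MonoidHom.noncommPiCoprod_mulSingle (rowRoot D) (0 : Fin (r + 1)) _
    have e : D.y (z r) 0 s * x = h * (phiZ D hr (SL2Pres.low (u 0).toAdd * wS 1) *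
        (((wd D)⁻¹ * rowHom' D u' * wd D) * ((h * wd D)⁻¹ * x))) := by
      rw [map_mul, phiZ_wS, phiZ_low, Units.val_one, ← wd,
        show D.y (z r) 0 s = h * rowHom' D u * h⁻¹ by rw [hu]; group, h0]
      group
    rw [e]
    exact (Hsub_le_stab D hr hh _).2 (phiZ_mul_mem D hr _ (mul_mem hu' hx))

theorem stab_eq_top (hr : 1 ≤ r)
    (hgen : Subgroup.closure {g | ∃ (i j : Fin (r + 2)) (t : K), i ≠ j ∧ g = D.y i j t} = ⊤) :
    stab D hr = ⊤ := by
  rw [eq_top_iff, ← hgen, Subgroup.closure_le]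
  rintro _ ⟨i, j, t, hij, rfl⟩
  rcases eq_or_ne j (z r) with rfl | hj
  · exact col_le_stab D hr (col_mem_range D i hij t)
  rcases eq_or_ne i (z r) with rfl | hi
  · rcases eq_or_ne j 0 with rfl | hj0
    · exact zero_row_mem_stab D hr t
    · have hb := D.brac zero_ne_z.symm (Ne.symm hj0) hij t 1
      rw [mul_one] at hb
      rw [SetLike.mem_coe, ← hb, commutatorElement_def]
      exact mul_mem (mul_mem (mul_mem (zero_row_mem_stab D hr t)
        (Hsub_le_stab D hr (mem_Hsub D (Ne.symm hj0) zero_ne_z hj 1)))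
        (inv_mem (zero_row_mem_stab D hr t)))
        (inv_mem (Hsub_le_stab D hr (mem_Hsub D (Ne.symm hj0) zero_ne_z hj 1)))
  · exact Hsub_le_stab D hr (mem_Hsub D hij hi hj t)

theorem mem_cosetSet (hr : 1 ≤ r)
    (hgen : Subgroup.closure {g | ∃ (i j : Fin (r + 2)) (t : K), i ≠ j ∧ g = D.y i j t} = ⊤) (g : G) :
    g ∈ cosetSet D hr := by
  have h : g ∈ stab D hr := by rw [stab_eq_top D hr hgen]; trivial
  have h2 := (h 1).2 (one_mem_cosetSet D hr)
  rwa [mul_one] at h2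

end finite

end Orbit

end Cfsg.Agent.SLPres
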